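import Cfsg.Agent.FlavellQuad.Groups
import Cfsg.Agent.Layer.FStar
import Cfsg.Agent.Fusion.Residual
import Cfsg.Agent.Core.KegelWielandt
import Cfsg.Agent.OddLocal.Basic

/-!
# The residual of the generalized Fitting subgroup of a subgroup
-/

set_option autoImplicit false

namespace Cfsg.Agent.FlavellCentral

open Cfsg Subgroup
open Cfsg.Agent.RootSub Cfsg.Agent.FlavellQuad
open scoped commutatorElement

universe u

variable {X : Type u} [Group X] {p : ℕ}

/-- The generalized Fitting subgroup of a subgroup, inside the ambient group. -/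
def fst (K : Subgroup X) : Subgroup X := (generalizedFittingSubgroup ↥K).map K.subtype

/-- The subgroup generated by the elements of order prime to p of the generalized Fitting
subgroup. -/
def xCore (p : ℕ) (K : Subgroup X) : Subgroup X :=
  closure {x | x ∈ fst K ∧ (orderOf x).Coprime p}

theorem fst_le (K : Subgroup X) : fst K ≤ K := map_subtype_le _

theorem xCore_le_fst (K : Subgroup X) : xCore p K ≤ fst K :=
  (closure_le _).mpr fun _ hx => hx.1

theorem xCore_le (K : Subgroup X) : xCore p K ≤ K := (xCore_le_fst K).trans (fst_le K)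

theorem mem_xCore {K : Subgroup X} {x : X} (hx : x ∈ fst K) (ho : (orderOf x).Coprime p) :
    x ∈ xCore p K :=
  subset_closure ⟨hx, ho⟩

theorem xCore_eq (K : Subgroup X) :
    ((pResidual p ↥(generalizedFittingSubgroup ↥K)).map
      (generalizedFittingSubgroup ↥K).subtype).map K.subtype = xCore p K := by
  rw [pResidual, MonoidHom.map_closure, MonoidHom.map_closure, xCore]
  congr 1
  ext x
  constructor
  · rintro ⟨_, ⟨z, hz, rfl⟩, rfl⟩
    refine ⟨⟨z, z.2, rfl⟩, ?_⟩
    have h : (orderOf z).Coprime p := hz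
    rwa [← orderOf_coe, ← orderOf_coe] at h
  · rintro ⟨⟨y, hy, rfl⟩, ho⟩
    refine ⟨y, ⟨⟨y, hy⟩, ?_, rfl⟩, rfl⟩
    show (orderOf (⟨y, hy⟩ : generalizedFittingSubgroup ↥K)).Coprime p
    rw [← orderOf_coe, ← orderOf_coe]
    exact ho

theorem conjBy_fst {K : Subgroup X} {g : X} (hg : conjBy K g = K) :
    conjBy (fst K) g = fst K := by
  let e : ↥K ≃* ↥(conjBy K g) := (MulAut.conj g).subgroupMap K
  have h : conjBy (fst K) g = fst (conjBy K g) := by
    rw [fst, fst, ← Layer.map_generalizedFitting_equiv e, conjBy, map_map, map_map]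
    rfl
  rw [h, hg]

theorem conjBy_closure (S : Set X) (g : X) :
    conjBy (closure S) g = closure ((fun x => g * x * g⁻¹) '' S) :=
  MonoidHom.map_closure _ S

theorem orderOf_conj_eq (g x : X) : orderOf (g * x * g⁻¹) = orderOf x :=
  orderOf_injective (MulAut.conj g).toMonoidHom (MulAut.conj g).injective x

variable [Finite X]

theorem conjBy_xCore {K : Subgroup X} {g : X} (hg : conjBy K g = K) :
    conjBy (xCore p K) g = xCore p K := by
  refine conjBy_eq_self_of_forall fun z hz => ?_
  have h := conjBy_mem hz g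
  rw [xCore, conjBy_closure] at h
  refine (closure_le _).mpr ?_ h
  rintro _ ⟨y, ⟨hy, ho⟩, rfl⟩
  exact mem_xCore (conjBy_fst hg ▸ conjBy_mem hy g) (by rwa [orderOf_conj_eq])

theorem fst_of_normal {K L : Subgroup X} (hLK : L ≤ K) (hn : ∀ g ∈ K, conjBy L g = L) :
    fst L = fst K ⊓ L := by
  have : (L.subgroupOf K).Normal :=
    normal_subgroupOf_of_le_normalizer fun g hg => conjBy_eq_self_iff.mp (hn g hg)
  have h := Layer.map_generalizedFitting_normal (L.subgroupOf K)
  have e1 : (generalizedFittingSubgroup ↥L).map L.subtype =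
      ((generalizedFittingSubgroup ↥(L.subgroupOf K)).map (L.subgroupOf K).subtype).map K.subtype := by
    rw [← Layer.map_generalizedFitting_equiv (subgroupOfEquivOfLe hLK), map_map, map_map]
    rfl
  rw [fst, e1, h, map_inf_eq _ _ _ K.subtype_injective, map_subgroupOf_eq_of_le hLK]
  rfl

theorem xCore_mono {K L : Subgroup X} (hLK : L ≤ K) (hn : ∀ g ∈ K, conjBy L g = L) :
    xCore p L ≤ xCore p K :=
  closure_mono fun _ hx => ⟨((fst_of_normal hLK hn).le hx.1).1, hx.2⟩

theorem xCore_xCore (K : Subgroup X) : xCore p (xCore p K) = xCore p K := by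
  refine le_antisymm (xCore_le _) ((closure_le _).mpr fun x hx => mem_xCore ?_ hx.2)
  rw [fst_of_normal (xCore_le K) fun g hg => conjBy_xCore (conjBy_mem_self hg)]
  exact ⟨hx.1, subset_closure hx⟩

variable [hp : Fact p.Prime]

/-- A commutator of p-power order commuting with a p'-element is trivial. -/
theorem eq_one_of_stable {x t : X} {T : Subgroup X} (hT : IsPGroup p T)
    (hx : (orderOf x).Coprime p) (hw : x * t * x⁻¹ * t⁻¹ ∈ T)
    (hc : Commute x (x * t * x⁻¹ * t⁻¹)) : x * t * x⁻¹ * t⁻¹ = 1 := by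
  set w := x * t * x⁻¹ * t⁻¹ with hwdef
  have hpow : ∀ k : ℕ, x ^ k * t * (x ^ k)⁻¹ = w ^ k * t := by
    intro k
    induction k with
    | zero => simp
    | succ k ih =>
      calc x ^ (k + 1) * t * (x ^ (k + 1))⁻¹ = x * (x ^ k * t * (x ^ k)⁻¹) * x⁻¹ := by
            rw [pow_succ']; group
        _ = x * (w ^ k * t) * x⁻¹ := by rw [ih]
        _ = (x * w ^ k) * t * x⁻¹ := by group
        _ = (w ^ k * x) * t * x⁻¹ := by rw [(hc.pow_right k).eq]
        _ = w ^ k * (x * t * x⁻¹ * t⁻¹) * t := by group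
        _ = w ^ (k + 1) * t := by rw [← hwdef, ← pow_succ]
  have h1 : w ^ orderOf x = 1 := by
    have := hpow (orderOf x)
    rw [pow_orderOf_eq_one, one_mul, inv_one, mul_one] at this
    exact right_eq_mul.mp this
  obtain ⟨k, hk⟩ := hT ⟨w, hw⟩
  have h2 : w ^ p ^ k = 1 := congrArg Subtype.val hk
  have h3 := pow_gcd_eq_one.mpr ⟨h1, h2⟩
  rwa [Nat.Coprime.gcd_eq_one (hx.pow_right k), pow_one] at h3

/-- A normal p-subgroup centralises the residual of the generalized Fitting subgroup. -/
theorem le_centralizer_xCore {K Y : Subgroup X} (hYK : Y ≤ K) (hY : IsPGroup p Y)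
    (hn : ∀ g ∈ K, conjBy Y g = Y) : xCore p K ≤ centralizer (Y : Set X) := by
  refine (closure_le _).mpr ?_
  rintro _ ⟨⟨z, hz, rfl⟩, ho⟩
  change (K.subtype z) ∈ centralizer (Y : Set X)
  rw [mem_centralizer_iff]
  intro y hy
  have : (Y.subgroupOf K).Normal :=
    normal_subgroupOf_of_le_normalizer fun g hg => conjBy_eq_self_iff.mp (hn g hg)
  have hyT : (⟨y, hYK hy⟩ : K) ∈ pCore p ↥K :=
    Core.le_pCore (N := Y.subgroupOf K) (IsPGroup.of_equiv hY (subgroupOfEquivOfLe hYK).symm)
      (mem_subgroupOf.mpr hy)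
  have hyF : (⟨y, hYK hy⟩ : K) ∈ fittingSubgroup ↥K := Core.pCore_le_fittingSubgroup p hyT
  have hz' : z ∈ (generalizedFittingSubgroup ↥K : Set K) := hz
  rw [Layer.coe_generalizedFitting, Set.mem_mul] at hz'
  obtain ⟨e, he, f, hf, rfl⟩ := hz'
  have hyc := mem_centralizer_iff.mp (Layer.fitting_le_centralizer_layer hyF) e he
  have hef : Commute e f := mem_centralizer_iff.mp (Layer.fitting_le_centralizer_layer hf) e he
  -- the p-part of f
  obtain ⟨i, m, hm, him⟩ :=
    Nat.exists_eq_pow_mul_and_not_dvd (orderOf_pos f).ne' p hp.out.ne_one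
  have hfi : (orderOf (f ^ p ^ i)).Coprime p := by
    refine Nat.Coprime.coprime_dvd_left ?_ ((hp.out.coprime_iff_not_dvd.mpr hm).symm)
    refine orderOf_dvd_of_pow_eq_one ?_
    rw [← pow_mul, ← him, pow_orderOf_eq_one]
  have hyp : ∃ k, orderOf (⟨y, hYK hy⟩ : K) = p ^ k := by
    obtain ⟨k, hk⟩ := IsPGroup.iff_orderOf.mp hY ⟨y, hy⟩
    exact ⟨k, by rw [orderOf_mk, ← hk, orderOf_mk]⟩
  have hcf : Commute (f ^ p ^ i) (⟨y, hYK hy⟩ : K) := by
    have hnil : Group.IsNilpotent (fittingSubgroup ↥K) := Core.fittingSubgroup_isNilpotent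
    obtain ⟨k, hk⟩ := hyp
    have h := OddLocal.commute_of_coprime_orderOf hnil
      (x := ⟨f ^ p ^ i, pow_mem hf _⟩) (y := ⟨_, hyF⟩) (by
        rw [orderOf_injective (fittingSubgroup ↥K).subtype (fittingSubgroup ↥K).subtype_injective
            ⟨f ^ p ^ i, pow_mem hf _⟩ |>.symm,
          orderOf_injective (fittingSubgroup ↥K).subtype (fittingSubgroup ↥K).subtype_injective
            ⟨_, hyF⟩ |>.symm]
        show (orderOf (f ^ p ^ i)).Coprime (orderOf (⟨y, hYK hy⟩ : K))
        rw [hk]
        exact hfi.pow_right k)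
    exact congrArg Subtype.val h
  have hzi : Commute ((e * f) ^ p ^ i) (⟨y, hYK hy⟩ : K) := by
    rw [hef.mul_pow]
    exact ((show Commute e _ from hyc).pow_left _).mul_left hcf
  have hcop : (p ^ i).Coprime (orderOf (e * f)) := by
    rw [← orderOf_coe (e * f)]
    exact (ho.pow_right i).symm
  obtain ⟨m', hm'⟩ := exists_pow_eq_self_of_coprime hcop
  have := hzi.pow_left m'
  rw [hm'] at this
  exact congrArg Subtype.val this.eq.symm

theorem opCore_le_centralizer_xCore (K : Subgroup X) :
    xCore p K ≤ centralizer (opCore p K : Set X) :=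
  le_centralizer_xCore (opCore_le K) (opCore_isPGroup K) fun _ hg => conjBy_opCore_self hg

theorem layer_le_xCore (K : Subgroup X) : (layer ↥K).map K.subtype ≤ xCore p K := by
  rw [← xCore_eq]
  refine map_mono ?_
  set F := generalizedFittingSubgroup ↥K
  set E' := (layer ↥K).subgroupOf F
  have hE' : E'.map F.subtype = layer ↥K :=
    map_subgroupOf_eq_of_le Layer.layer_le_generalizedFitting
  have hperf : ⁅E', E'⁆ = E' := map_injective F.subtype_injective (by
    rw [map_commutator, hE', Layer.layer_perfect])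
  set q := QuotientGroup.mk' (pResidual p ↥F)
  have hI : E'.map q = ⊥ := by
    by_contra hne
    have hq : IsPGroup p (↥F ⧸ pResidual p ↥F) := Fusion.isPGroup_quotient_pResidual
    have hlt := Coprime.commutator_lt_of_isPGroup (P := E'.map q) (U := E'.map q)
      (hq.to_subgroup _) (hq.to_subgroup _) le_normalizer hne
    rw [← map_commutator, hperf] at hlt
    exact lt_irrefl _ hlt
  rw [Subgroup.map_eq_bot_iff, QuotientGroup.ker_mk'] at hI
  exact hE'.ge.trans (map_mono hI)

/-- What centralises the residual and the p-core centralises the generalized Fitting subgroup. -/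
theorem fst_le_of {K H : Subgroup X} (h1 : xCore p K ≤ H) (h2 : opCore p K ≤ H) :
    fst K ≤ H := by
  rw [fst, generalizedFittingSubgroup, Subgroup.map_sup]
  refine sup_le ((layer_le_xCore K).trans h1) ?_
  rintro _ ⟨f, hf, rfl⟩
  obtain ⟨a, b, hab, -, ha, hb, ⟨k, hk⟩, hbp⟩ :=
    Fusion.exists_pPart_mul (p := p) f (isOfFinOrder_of_finite f)
  obtain ⟨j, -, hj⟩ := (Nat.dvd_prime_pow hp.out).mp hk
  have hfle : zpowers f ≤ fittingSubgroup ↥K := zpowers_le.mpr hf
  rw [hab, map_mul]
  refine mul_mem (h2 ⟨a, Core.mem_pCore_of_mem_fitting (hfle ha) ⟨j, hj⟩, rfl⟩) (h1 (mem_xCore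
    ⟨b, Layer.fitting_le_generalizedFitting (hfle hb), rfl⟩ ?_))
  show (orderOf (b : X)).Coprime p
  rwa [orderOf_coe]

variable {R : Subgroup X} {r : ℕ}

/-- If R centralises the residual of F-star of K, then it moves the centraliser of the p-core only
within the p-core. -/
theorem commutator_le_opCore [Fact r.Prime] (hR : IsPGroup r R) {K : Subgroup X}
    (hcop : (Nat.card K).Coprime r) (hn : ∀ a ∈ R, conjBy K a = K)
    (hX : R ≤ centralizer (xCore p K : Set X)) :
    ⁅K ⊓ centralizer (opCore p K : Set X), R⁆ ≤ opCore p K := by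
  set T := opCore p K
  set C := K ⊓ centralizer (T : Set X)
  set Z := K ⊓ centralizer (fst K : Set X)
  have hTR : R ≤ normalizer (T : Set X) := fun a ha =>
    conjBy_eq_self_iff.mp (conjBy_opCore (p := p) (hn a ha))
  have hKR : R ≤ normalizer (K : Set X) := fun a ha => conjBy_eq_self_iff.mp (hn a ha)
  have hCR : R ≤ normalizer (C : Set X) :=
    Coprime.le_normalizer_inf hKR (Coprime.le_normalizer_centralizer hTR)
  have hKX : K ≤ normalizer (xCore p K : Set X) := fun g hg =>
    conjBy_eq_self_iff.mp (conjBy_xCore (conjBy_mem_self hg))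
  have hCZ : ⁅C, R⁆ ≤ Z := by
    refine commutator_le.mpr fun u hu a ha => ?_
    have hw : ⁅u, a⁆ ∈ C := Coprime.commutator_le_of_le_normalizer hCR
      (commutator_mem_commutator hu ha)
    refine ⟨hw.1, ?_⟩
    have hle : fst K ≤ centralizer {⁅u, a⁆} := by
      refine fst_le_of (p := p) ?_ ?_
      · intro z hz
        rw [mem_centralizer_singleton_iff]
        have hz' : u⁻¹ * z * u ∈ xCore p K := by
          have := (mem_normalizer_iff.mp (hKX (K.inv_mem hu.1)) z).mp hz
          rwa [inv_inv] at this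
        have h1 : a * z = z * a := (mem_centralizer_iff.mp (hX ha) z hz).symm
        have h2 : a * (u⁻¹ * z * u) = u⁻¹ * z * u * a :=
          (mem_centralizer_iff.mp (hX ha) _ hz').symm
        rw [commutatorElement_def]
        calc z * (u * a * u⁻¹ * a⁻¹) = u * (u⁻¹ * z * u * a) * u⁻¹ * a⁻¹ := by group
          _ = u * (a * (u⁻¹ * z * u)) * u⁻¹ * a⁻¹ := by rw [h2]
          _ = u * a * u⁻¹ * (z * a⁻¹) := by group
          _ = u * a * u⁻¹ * (a⁻¹ * z) := by
              rw [show z * a⁻¹ = a⁻¹ * z from (Commute.inv_left (show Commute a z from h1)).eq.symm]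
          _ = u * a * u⁻¹ * a⁻¹ * z := by group
      · intro z hz
        rw [mem_centralizer_singleton_iff]
        exact mem_centralizer_iff.mp hw.2 z hz
    show ⁅u, a⁆ ∈ centralizer (fst K : Set X)
    rw [mem_centralizer_iff]
    intro z hz
    exact mem_centralizer_singleton_iff.mp (hle hz)
  have hZF : Z ≤ fst K := by
    rintro z ⟨hzK, hzc⟩
    refine ⟨⟨z, hzK⟩, Layer.centralizer_generalizedFitting_le (mem_centralizer_iff.mpr
      fun w hw => Subtype.ext (mem_centralizer_iff.mp hzc w ⟨w, hw, rfl⟩)), rfl⟩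
  have hZcomm : ∀ x ∈ Z, ∀ y ∈ Z, x * y = y * x := fun x hx y hy =>
    (mem_centralizer_iff.mp hx.2 y (hZF hy)).symm
  have hZR : ⁅Z, R⁆ ≤ T := by
    refine commutator_le.mpr fun z hz a ha => ?_
    obtain ⟨c, b, hcb, -, hc, hb, ⟨k, hk⟩, hbp⟩ :=
      Fusion.exists_pPart_mul (p := p) z (isOfFinOrder_of_finite z)
    have hzle : zpowers z ≤ Z := zpowers_le.mpr hz
    let U : Subgroup X :=
      { carrier := {x | x ∈ Z ∧ ∃ k, x ^ p ^ k = 1}
        one_mem' := ⟨one_mem _, 0, by simp⟩
        mul_mem' := by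
          rintro x y ⟨hx, i, hi⟩ ⟨hy, j, hj⟩
          refine ⟨mul_mem hx hy, i + j, ?_⟩
          rw [(show Commute x y from hZcomm x hx y hy).mul_pow, pow_add, pow_mul, hi, one_pow,
            one_mul, mul_comm, pow_mul, hj, one_pow]
        inv_mem' := by
          rintro x ⟨hx, i, hi⟩
          exact ⟨inv_mem hx, i, by rw [inv_pow, hi, inv_one]⟩ }
    have hUp : IsPGroup p U := by
      rintro ⟨x, -, i, hi⟩
      exact ⟨i, Subtype.ext hi⟩
    have hUT : U ≤ T := le_opCore (fun x hx => hx.1.1) hUp fun g hg =>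
      conjBy_eq_self_of_forall fun x hx => by
        obtain ⟨hxZ, i, hi⟩ := hx
        refine ⟨⟨K.mul_mem (K.mul_mem hg hxZ.1) (K.inv_mem hg), ?_⟩, i, by rw [conj_pow, hi]; group⟩
        rw [← conjBy_eq_self_iff.mpr (Coprime.le_normalizer_centralizer
          (fun h hh => conjBy_eq_self_iff.mp (conjBy_fst (conjBy_mem_self hh))) hg)]
        exact conjBy_mem hxZ.2 g
    have hcT : c ∈ T := hUT ⟨hzle hc, k, orderOf_dvd_iff_pow_eq_one.mp hk⟩
    have hab : b * a = a * b :=
      mem_centralizer_iff.mp (hX ha) b (mem_xCore (hZF (hzle hb)) hbp)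
    have he : ⁅z, a⁆ = c * (a * c⁻¹ * a⁻¹) := by
      rw [hcb, commutatorElement_def]
      calc c * b * a * (c * b)⁻¹ * a⁻¹ = c * (b * a) * b⁻¹ * c⁻¹ * a⁻¹ := by group
        _ = c * (a * b) * b⁻¹ * c⁻¹ * a⁻¹ := by rw [hab]
        _ = _ := by group
    rw [he]
    exact T.mul_mem hcT ((mem_normalizer_iff.mp (hTR ha) _).mp (T.inv_mem hcT))
  have hcopC : (Nat.card R).Coprime (Nat.card C) :=
    coprime_card hR (hcop.coprime_dvd_left (card_dvd_of_le inf_le_left))
  have : Group.IsNilpotent R := hR.isNilpotent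
  rw [← Coprime.commutator_commutator_eq hCR hcopC (Or.inl inferInstance)]
  exact (commutator_mono hCZ le_rfl).trans hZR

/-- In that situation the p'-elements centralising the p-core commute with R. -/
theorem commute_of_centralizes_opCore [Fact r.Prime] (hR : IsPGroup r R) {K : Subgroup X}
    (hcop : (Nat.card K).Coprime r) (hn : ∀ a ∈ R, conjBy K a = K)
    (hX : R ≤ centralizer (xCore p K : Set X)) {x : X} (hxK : x ∈ K)
    (hxT : x ∈ centralizer (opCore p K : Set X)) (hx : (orderOf x).Coprime p) {a : X} (ha : a ∈ R) :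
    x * a = a * x := by
  have hw : x * a * x⁻¹ * a⁻¹ ∈ opCore p K :=
    commutator_le_opCore hR hcop hn hX (commutator_mem_commutator ⟨hxK, hxT⟩ ha)
  have h := eq_one_of_stable (opCore_isPGroup K) hx hw
    (mem_centralizer_iff.mp hxT _ hw).symm
  rwa [mul_inv_eq_one, mul_inv_eq_iff_eq_mul] at h

end Cfsg.Agent.FlavellCentral
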