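import Cfsg.Agent.FlavellQuad.Groups
import Cfsg.Agent.Core.Frattini
import Cfsg.Agent.Coprime.Basic

/-!
# A prime order automorphism whose fixed points are centralised by the group it acts on
-/

set_option autoImplicit false
set_option maxHeartbeats 400000

namespace Cfsg.Agent.FlavellCentral

open Cfsg Subgroup
open Cfsg.Agent.RootSub Cfsg.Agent.FlavellQuad
open scoped commutatorElement

universe u

/-- An abelian group of automorphisms normalised without fixed points by an automorphism whose
fixed points it centralises is trivial. -/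
theorem eq_bot_of_fixedPointFree {V : Type u} [CommGroup V] [Finite V] (A : Subgroup (MulAut V))
    (hAc : ∀ x ∈ A, ∀ y ∈ A, x * y = y * x) {α : MulAut V} {r : ℕ} [hr : Fact r.Prime]
    (hα : α ^ r = 1) (hAα : ∀ x ∈ A, α * x * α⁻¹ ∈ A)
    (hfpf : ∀ x ∈ A, α * x = x * α → x = 1)
    (hfix : ∀ v, α v = v → ∀ x ∈ A, x v = v)
    (hcop : (Nat.card A).Coprime (Nat.card V)) : A = ⊥ := by
  classical
  have : Fintype A := Fintype.ofFinite A
  refine (eq_bot_iff_forall A).mpr fun x₀ hx₀ => MulEquiv.ext fun v => ?_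
  let Q : V → V := fun w => ∏ u : A, (u : MulAut V) w
  let N : V → V := fun w => ∏ i ∈ Finset.range r, (α ^ i) w
  have hN : ∀ w, α (N w) = N w := by
    intro w
    have h1 : α (N w) * w = N w * w := by
      have h2 := (Finset.prod_range_succ' (fun i => (α ^ i) w) r).symm.trans
        (Finset.prod_range_succ (fun i => (α ^ i) w) r)
      simp only [pow_zero, hα, MulAut.one_apply] at h2
      rw [map_prod]
      simpa [pow_succ', MulAut.mul_apply] using h2
    exact mul_right_cancel h1
  have hQA : ∀ w, ∀ x ∈ A, x (Q w) = Q w := by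
    intro w x hx
    rw [map_prod]
    exact Fintype.prod_equiv (Equiv.mulLeft (⟨x, hx⟩ : A)) _ _ fun u => rfl
  have hconj : ∀ i : ℕ, ∀ x ∈ A, α ^ i * x * (α ^ i)⁻¹ ∈ A := by
    intro i
    induction i with
    | zero => intro x hx; simpa using hx
    | succ i ih =>
      intro x hx
      have := hAα _ (ih x hx)
      rw [show α ^ (i + 1) * x * (α ^ (i + 1))⁻¹ = α * (α ^ i * x * (α ^ i)⁻¹) * α⁻¹ by
        rw [pow_succ']; group]
      exact this
  -- for a non-zero exponent the conjugates of a power run over the coset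
  have hterm : ∀ i ∈ Finset.range r, i ≠ 0 →
      ∏ z : A, ((z : MulAut V) * α ^ i * (z : MulAut V)⁻¹) v = (α ^ i) (Q v) := by
    intro i hi hi0
    have hir : i.Coprime r := Nat.Coprime.symm (hr.out.coprime_iff_not_dvd.mpr fun hd =>
      absurd (Nat.le_of_dvd (Nat.pos_of_ne_zero hi0) hd) (not_le.mpr (Finset.mem_range.mp hi)))
    have hord : i.Coprime (orderOf α) :=
      hir.coprime_dvd_right (orderOf_dvd_of_pow_eq_one hα)
    obtain ⟨m, hm⟩ := exists_pow_eq_self_of_coprime hord
    let e : A → A := fun z => ⟨(α ^ i)⁻¹ * (z : MulAut V) * α ^ i * (z : MulAut V)⁻¹, by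
      refine A.mul_mem ?_ (A.inv_mem z.2)
      have := hconj (orderOf α * i - i) z z.2
      have he : α ^ (orderOf α * i - i) = (α ^ i)⁻¹ := by
        rw [eq_inv_iff_mul_eq_one, ← pow_add,
          Nat.sub_add_cancel (Nat.le_mul_of_pos_left i (orderOf_pos α)), pow_mul,
          pow_orderOf_eq_one, one_pow]
      rwa [he, inv_inv] at this⟩
    have he : Function.Bijective e := by
      refine Finite.injective_iff_bijective.mp fun z z' h => ?_
      have h' : (z : MulAut V) * α ^ i * (z : MulAut V)⁻¹ =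
          (z' : MulAut V) * α ^ i * (z' : MulAut V)⁻¹ := by
        have h0 := congrArg (fun u : A => α ^ i * (u : MulAut V)) h
        simp only [e, ← mul_assoc, mul_inv_cancel, one_mul] at h0
        exact h0
      set w := (z' : MulAut V)⁻¹ * (z : MulAut V) with hw
      have hcomm : α ^ i * w = w * α ^ i := by
        rw [hw]
        have h1 := congrArg (fun u => (z' : MulAut V)⁻¹ * u * (z : MulAut V)) h'
        simp only [mul_assoc, inv_mul_cancel, mul_one, inv_mul_cancel_left] at h1
        rw [mul_assoc, h1]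
      have hc : Commute (α ^ i) w := hcomm
      have hc' := hc.pow_left m
      rw [hm] at hc'
      have := hfpf w (A.mul_mem (A.inv_mem z'.2) z.2) hc'
      exact Subtype.ext (inv_mul_eq_one.mp this).symm
    rw [map_prod]
    exact Fintype.prod_bijective e he _ _ fun z => by
      rw [show (z : MulAut V) * α ^ i * (z : MulAut V)⁻¹ =
        α ^ i * ((α ^ i)⁻¹ * (z : MulAut V) * α ^ i * (z : MulAut V)⁻¹) by group]
      rfl
  have hinv : ∏ z : A, ((z : MulAut V)⁻¹) v = Q v :=
    Fintype.prod_equiv (Equiv.inv A) _ _ fun u => rfl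
  have hkey : ∏ i ∈ Finset.range r, ∏ z : A, ((z : MulAut V) * α ^ i * (z : MulAut V)⁻¹) v =
      ∏ i ∈ Finset.range r, (α ^ i) (Q v) := by
    rw [Finset.prod_comm]
    calc ∏ z : A, ∏ i ∈ Finset.range r, ((z : MulAut V) * α ^ i * (z : MulAut V)⁻¹) v
        = ∏ z : A, (z : MulAut V) (N ((z : MulAut V)⁻¹ v)) := by
          refine Finset.prod_congr rfl fun z _ => ?_
          rw [map_prod]
          rfl
      _ = ∏ z : A, N ((z : MulAut V)⁻¹ v) :=
          Finset.prod_congr rfl fun z _ => hfix _ (hN _) _ z.2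
      _ = _ := by
          rw [Finset.prod_comm]
          refine Finset.prod_congr rfl fun i _ => ?_
          rw [← hinv, map_prod]
  have h0 : 0 ∈ Finset.range r := Finset.mem_range.mpr hr.out.pos
  rw [← Finset.mul_prod_erase _ _ h0, ← Finset.mul_prod_erase _ _ h0,
    Finset.prod_congr rfl fun i hi => hterm i (Finset.mem_of_mem_erase hi)
      (Finset.ne_of_mem_erase hi)] at hkey
  have h1 := mul_right_cancel hkey
  simp only [pow_zero, mul_one, mul_inv_cancel, MulAut.one_apply, Finset.prod_const,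
    Finset.card_univ] at h1
  rw [← Nat.card_eq_fintype_card] at h1
  refine (powCoprime hcop.symm).injective ?_
  simp only [powCoprime_apply, MulAut.one_apply]
  rw [← map_pow, h1, hQA v x₀ hx₀]

variable {X : Type u} [Group X] [Finite X] {p q r : ℕ} [Fact p.Prime] [Fact q.Prime] [Fact r.Prime]

omit [Finite X] in
/-- The normaliser acts on the abelianisation. -/
theorem exists_abelianizationHom (T : Subgroup X) :
    ∃ ψ : normalizer (T : Set X) →* MulAut (Abelianization T),
      ∀ (n : normalizer (T : Set X)) (t : T), ψ n (Abelianization.of t) =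
        Abelianization.of ⟨n * t * (n : X)⁻¹, (mem_normalizer_iff.mp n.2 _).mp t.2⟩ :=
  ⟨{ toFun := fun n => (normalizerMonoidHom T n).abelianizationCongr
     map_one' := by
       refine MulEquiv.ext fun v => ?_
       obtain ⟨t, rfl⟩ := QuotientGroup.mk_surjective v
       rw [map_one]
       rfl
     map_mul' := fun m n => by
       refine MulEquiv.ext fun v => ?_
       obtain ⟨t, rfl⟩ := QuotientGroup.mk_surjective v
       rw [map_mul]
       rfl }, fun _ _ => rfl⟩

/-- A q-group on which an element of prime order r acts, its fixed points acting trivially on a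
p-group whose fixed points it centralises, centralises that p-group. -/
theorem frobenius_trivial {T Q : Subgroup X} {a : X} (hT : IsPGroup p T) (hQ : IsPGroup q Q)
    (hqp : q ≠ p) (har : a ^ r = 1) (hrp : r ≠ p) (hrq : r ≠ q) (haT : conjBy T a = T)
    (haQ : conjBy Q a = Q) (hQT : ∀ x ∈ Q, conjBy T x = T)
    (h1 : ∀ t ∈ T, a * t = t * a → ∀ x ∈ Q, x * t = t * x)
    (h2 : ∀ x ∈ Q, a * x = x * a → ∀ t ∈ T, x * t = t * x) :
    Q ≤ centralizer (T : Set X) := by
  set L := normalizer (T : Set X)
  have haL : a ∈ L := conjBy_eq_self_iff.mp haT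
  have hQL : Q ≤ L := fun x hx => conjBy_eq_self_iff.mp (hQT x hx)
  obtain ⟨ψ, hψ⟩ := exists_abelianizationHom T
  set α := ψ ⟨a, haL⟩ with hαdef
  set B := (Q.subgroupOf L).map ψ
  have hcza : (Nat.card (zpowers a)).Coprime p ∧ (Nat.card (zpowers a)).Coprime q := by
    rw [Nat.card_zpowers]
    exact ⟨((Nat.coprime_primes Fact.out Fact.out).mpr hrp).coprime_dvd_left
        (orderOf_dvd_of_pow_eq_one har),
      ((Nat.coprime_primes Fact.out Fact.out).mpr hrq).coprime_dvd_left
        (orderOf_dvd_of_pow_eq_one har)⟩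
  -- the image of Q is trivial
  have hB : B = ⊥ := by
    by_contra hne
    have hBq : IsPGroup q B := (IsPGroup.of_equiv hQ (subgroupOfEquivOfLe hQL).symm).map ψ
    set A := B ⊓ centralizer (B : Set (MulAut (Abelianization T)))
    have hA : A ≠ ⊥ := by
      intro h
      haveI : Nontrivial B := (nontrivial_iff_ne_bot B).mpr hne
      haveI := hBq.center_nontrivial
      obtain ⟨⟨z, hz⟩, hz1⟩ := exists_ne (1 : center B)
      have hzA : (z : MulAut (Abelianization T)) ∈ A :=
        ⟨z.2, mem_centralizer_iff.mpr fun b hb =>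
          congrArg Subtype.val (mem_center_iff.mp hz ⟨b, hb⟩)⟩
      rw [h, mem_bot] at hzA
      exact hz1 (Subtype.ext (Subtype.ext hzA))
    refine hA (eq_bot_of_fixedPointFree (r := r) A
      (fun x hx y hy => (mem_centralizer_iff.mp hx.2 y hy.1).symm)
      (α := α) ?_ ?_ ?_ ?_ ?_)
    · rw [hαdef, ← map_pow, show (⟨a, haL⟩ : L) ^ r = 1 from Subtype.ext har, map_one]
    · have hBα : conjBy B α = B := by
        refine conjBy_eq_self_of_forall ?_
        rintro _ ⟨x, hx, rfl⟩
        refine ⟨⟨a, haL⟩ * x * ⟨a, haL⟩⁻¹, ?_, by rw [map_mul, map_mul, map_inv]⟩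
        rw [SetLike.mem_coe, mem_subgroupOf] at hx ⊢
        exact haQ ▸ conjBy_mem hx a
      intro x hx
      refine ⟨hBα ▸ conjBy_mem hx.1 α, mem_centralizer_iff.mpr fun b hb => ?_⟩
      have hb' : α⁻¹ * b * α ∈ B := mem_conjBy.mp (hBα.symm ▸ hb)
      have := mem_centralizer_iff.mp hx.2 _ hb'
      calc b * (α * x * α⁻¹) = α * (α⁻¹ * b * α * x) * α⁻¹ := by group
        _ = α * (x * (α⁻¹ * b * α)) * α⁻¹ := by rw [this]
        _ = α * x * α⁻¹ * b := by group
    · intro u hu hcomm
      obtain ⟨⟨x, hxL⟩, hx, rfl⟩ := Subgroup.mem_map.mp (mem_inf.mp hu).1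
      rw [mem_subgroupOf] at hx
      set K := Q ⊓ (ψ.ker).map L.subtype
      have haK : zpowers a ≤ normalizer (K : Set X) := zpowers_le.mpr (conjBy_eq_self_iff.mp (by
        refine conjBy_eq_self_of_forall fun k hk => ?_
        obtain ⟨hkQ, n, hn, rfl⟩ := hk
        exact ⟨haQ ▸ conjBy_mem hkQ a,
          ⟨⟨a, haL⟩ * n * ⟨a, haL⟩⁻¹, (inferInstance : ψ.ker.Normal).conj_mem n hn _, rfl⟩⟩))
      obtain ⟨n, hn, hc⟩ := Coprime.exists_fixed_mem_leftCoset (A := zpowers a) (N := K) (k := x) haK
        (by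
          obtain ⟨i, hi⟩ := IsPGroup.iff_card.mp (hQ.to_le (inf_le_left : K ≤ Q))
          rw [hi]
          exact hcza.2.pow_right i)
        (Or.inl inferInstance) (fun b hb => by
          have hbL : b ∈ L := zpowers_le.mpr haL hb
          have hbQ : conjBy Q b = Q := conjBy_eq_self_iff.mpr
            (zpowers_le.mpr (conjBy_eq_self_iff.mp haQ) hb)
          refine ⟨Q.mul_mem (Q.inv_mem hx) (hbQ ▸ conjBy_mem hx b),
            ⟨⟨x, hxL⟩⁻¹ * (⟨b, hbL⟩ * ⟨x, hxL⟩ * ⟨b, hbL⟩⁻¹), ?_, rfl⟩⟩
          have hcb : Commute (ψ ⟨b, hbL⟩) (ψ ⟨x, hxL⟩) := by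
            obtain ⟨j, rfl⟩ := mem_zpowers_iff.mp hb
            rw [show (⟨a ^ j, hbL⟩ : L) = ⟨a, haL⟩ ^ j from rfl, map_zpow]
            exact (show Commute α (ψ ⟨x, hxL⟩) from hcomm).zpow_left j
          rw [SetLike.mem_coe, MonoidHom.mem_ker]
          simp only [map_mul, map_inv, hcb.eq]
          group)
      obtain ⟨-, n', hn', rfl⟩ := id hn
      have hxn : x * (n' : X) ∈ Q := Q.mul_mem hx hn.1
      have hcent := h2 _ hxn (mem_centralizer_iff.mp hc a (mem_zpowers a))
      have h3 : ψ ⟨x, hxL⟩ = ψ (⟨x, hxL⟩ * n') := by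
        rw [map_mul, show ψ n' = 1 from hn', mul_one]
      rw [h3]
      refine MulEquiv.ext fun v => ?_
      obtain ⟨t, rfl⟩ := QuotientGroup.mk_surjective v
      refine (hψ _ t).trans (congrArg Abelianization.of (Subtype.ext ?_))
      show x * (n' : X) * (t : X) * (x * (n' : X))⁻¹ = t
      rw [hcent t t.2, mul_inv_cancel_right]
    · intro v hv x hx
      obtain ⟨t, rfl⟩ := QuotientGroup.mk_surjective v
      set D := (commutator ↥T).map T.subtype
      have hDT : D ≤ T := map_subtype_le _
      have haD : zpowers a ≤ normalizer (D : Set X) := zpowers_le.mpr (conjBy_eq_self_iff.mp (by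
        show (((commutator ↥T).map T.subtype).map (MulAut.conj a).toMonoidHom) = _
        have hTT : (commutator ↥T).map T.subtype = ⁅T, T⁆ := by
          rw [commutator_def, map_commutator, ← MonoidHom.range_eq_map, range_subtype]
        rw [hTT, map_commutator]
        exact congrArg₂ (fun A B => ⁅A, B⁆) haT haT |>.trans hTT.symm))
      have hmem : ∀ b ∈ zpowers a, (t : X)⁻¹ * (b * t * b⁻¹) ∈ D := by
        intro b hb
        have hbL : b ∈ L := zpowers_le.mpr haL hb
        have hfix : ψ ⟨b, hbL⟩ (Abelianization.of t) = Abelianization.of t := by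
          obtain ⟨j, rfl⟩ := mem_zpowers_iff.mp hb
          rw [show (⟨a ^ j, hbL⟩ : L) = ⟨a, haL⟩ ^ j from rfl, map_zpow]
          exact (MulAction.mem_stabilizer_iff (G := MulAut (Abelianization T))).mp
            (zpow_mem (MulAction.mem_stabilizer_iff.mpr hv) j)
        rw [hψ] at hfix
        have h' : (QuotientGroup.mk t : ↥T ⧸ commutator ↥T) =
            QuotientGroup.mk ⟨b * t * b⁻¹, (mem_normalizer_iff.mp hbL _).mp t.2⟩ := hfix.symm
        exact ⟨_, QuotientGroup.eq.mp h', rfl⟩
      obtain ⟨n, hn, hc⟩ := Coprime.exists_fixed_mem_leftCoset (A := zpowers a) (N := D) (k := (t : X))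
        haD (by
          obtain ⟨i, hi⟩ := IsPGroup.iff_card.mp (hT.to_le hDT)
          rw [hi]
          exact hcza.1.pow_right i)
        (Or.inl inferInstance) hmem
      obtain ⟨d, hd, rfl⟩ := hn
      obtain ⟨⟨y, hyL⟩, hy, rfl⟩ := Subgroup.mem_map.mp (mem_inf.mp hx).1
      rw [mem_subgroupOf] at hy
      have hv' : Abelianization.of t = Abelianization.of (t * d) := by
        rw [map_mul]
        have : Abelianization.of d = 1 := (QuotientGroup.eq_one_iff d).mpr hd
        rw [this, mul_one]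
      show ψ _ (Abelianization.of t) = Abelianization.of t
      rw [hv']
      refine (hψ _ _).trans (congrArg Abelianization.of (Subtype.ext ?_))
      show y * ((t : X) * (d : X)) * y⁻¹ = (t : X) * (d : X)
      rw [h1 _ (T.mul_mem t.2 d.2) (mem_centralizer_iff.mp hc a (mem_zpowers a)) y hy,
        mul_inv_cancel_right]
    · obtain ⟨i, hi⟩ := IsPGroup.iff_card.mp (hBq.to_le (inf_le_left : A ≤ B))
      obtain ⟨j, hj⟩ := IsPGroup.iff_card.mp
        (show IsPGroup p (Abelianization T) from hT.to_quotient _)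
      rw [hi, hj]
      exact ((Nat.coprime_primes Fact.out Fact.out).mpr hqp).pow i j
  haveI : Group.IsNilpotent T := hT.isNilpotent
  refine Coprime.le_centralizer_of_trivial_mod_frattini hQL ?_ fun x hx t ht => ?_
  · obtain ⟨i, hi⟩ := IsPGroup.iff_card.mp hQ
    obtain ⟨j, hj⟩ := IsPGroup.iff_card.mp (hT.to_subgroup (frattini ↥T))
    rw [hi, hj]
    exact ((Nat.coprime_primes Fact.out Fact.out).mpr hqp).pow i j
  · have hxB : ψ ⟨x, hQL hx⟩ = 1 := by
      rw [← mem_bot, ← hB]
      exact mem_map_of_mem ψ (mem_subgroupOf.mpr hx)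
    have h := hψ ⟨x, hQL hx⟩ ⟨t, ht⟩
    rw [hxB, MulAut.one_apply] at h
    have hm : (⟨x * t * x⁻¹, (mem_normalizer_iff.mp (hQL hx) _).mp ht⟩ : T)⁻¹ * ⟨t, ht⟩ ∈ commutator ↥T :=
      QuotientGroup.eq.mp h.symm
    have hm' := (commutator ↥T).inv_mem hm
    rw [mul_inv_rev, inv_inv] at hm'
    refine ⟨_, Core.commutator_le_frattini
      ((inferInstance : (commutator ↥T).Normal).conj_mem _ hm' ⟨t, ht⟩), ?_⟩
    simp [mul_assoc]

end Cfsg.Agent.FlavellCentral
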