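import Cfsg.Agent.FlavellQuad.Groups
import Cfsg.Agent.Coprime.Generation

/-!
# The intersection of the invariant Sylow subgroups
-/

set_option autoImplicit false

namespace Cfsg.Agent.FlavellCentral

open Cfsg Subgroup
open Cfsg.Agent.RootSub Cfsg.Agent.FlavellQuad
open scoped Pointwise

universe u

variable {X : Type u} [Group X] {p : ℕ}

/-- The intersection of the R-invariant Sylow p-subgroups of G. -/
def iCore (p : ℕ) (G R : Subgroup X) : Subgroup X :=
  G ⊓ ⨅ S ∈ {S : Subgroup X | IsSyl p G S ∧ ∀ a ∈ R, conjBy S a = S}, S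

theorem iCore_le (G R : Subgroup X) : iCore p G R ≤ G := inf_le_left

theorem iCore_le_syl {G R S : Subgroup X} (hS : IsSyl p G S) (hSR : ∀ a ∈ R, conjBy S a = S) :
    iCore p G R ≤ S :=
  inf_le_right.trans (iInf₂_le S ⟨hS, hSR⟩)

theorem inAllSyl_of_mem {G R : Subgroup X} {x : X} (hx : x ∈ iCore p G R) : InAllSyl p G R x :=
  fun _ hS hSR => iCore_le_syl hS hSR hx

theorem conjBy_of_commute {R S : Subgroup X} {u : X} (hu : ∀ a ∈ R, u * a = a * u) :
    (∀ a ∈ R, conjBy S a = S) → ∀ a ∈ R, conjBy (conjBy S u) a = conjBy S u := fun h a ha => by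
  rw [conjBy_conjBy, ← hu a ha, ← conjBy_conjBy, h a ha]

variable [Finite X] [hp : Fact p.Prime] {r : ℕ} [Fact r.Prime] {G R : Subgroup X}

theorem mem_iCore_iff (hR : IsPGroup r R) (hcop : (Nat.card G).Coprime r)
    (hn : ∀ a ∈ R, conjBy G a = G) {x : X} : x ∈ iCore p G R ↔ InAllSyl p G R x :=
  ⟨inAllSyl_of_mem, fun h => ⟨h.mem hR hcop hn,
    mem_iInf.mpr fun S => mem_iInf.mpr fun hS => h S hS.1 hS.2⟩⟩

theorem iCore_isPGroup (hR : IsPGroup r R) (hcop : (Nat.card G).Coprime r)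
    (hn : ∀ a ∈ R, conjBy G a = G) : IsPGroup p (iCore p G R) := by
  obtain ⟨S, hS, -, hSR⟩ := exists_inv_syl (p := p) hR hcop hn bot_le IsPGroup.of_bot
    (fun a _ => conjBy_bot a)
  exact hS.isPGroup.to_le (iCore_le_syl hS hSR)

omit [Fact r.Prime] in
theorem conjBy_iCore {u : X} (hu : conjBy G u = G)
    (hperm : ∀ S, IsSyl p G S → (∀ a ∈ R, conjBy S a = S) → ∀ a ∈ R,
      conjBy (conjBy S u⁻¹) a = conjBy S u⁻¹) :
    conjBy (iCore p G R) u = iCore p G R := by
  refine conjBy_eq_self_of_forall fun x hx => ⟨hu ▸ conjBy_mem (iCore_le G R hx) u, ?_⟩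
  refine mem_iInf.mpr fun S => mem_iInf.mpr fun hS => ?_
  have hu' : conjBy G u⁻¹ = G := by
    conv_lhs => rw [← hu]
    rw [conjBy_inv_cancel]
  have := conjBy_mem (iCore_le_syl (hS.1.conjBy hu') (hperm S hS.1 hS.2) hx) u
  rwa [conjBy_cancel_inv] at this

omit [Fact r.Prime] in
theorem conjBy_iCore_of_mem_R {a : X} (hn : ∀ a ∈ R, conjBy G a = G)
    (ha : a ∈ R) : conjBy (iCore p G R) a = iCore p G R :=
  conjBy_iCore (hn a ha) fun S _ hS b hb => by
    rw [hS a⁻¹ (inv_mem ha), hS b hb]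

omit [Fact r.Prime] in
theorem conjBy_iCore_of_commute {c : X} (hc : conjBy G c = G) (hcR : ∀ a ∈ R, c * a = a * c) :
    conjBy (iCore p G R) c = iCore p G R :=
  conjBy_iCore hc fun _ _ hS => conjBy_of_commute (fun a ha =>
    ((show Commute c a from hcR a ha).inv_left).eq) hS

theorem exists_conj_inv (hR : IsPGroup r R) (hcop : (Nat.card G).Coprime r)
    (hn : ∀ a ∈ R, conjBy G a = G) {S S' : Subgroup X} (hS : IsSyl p G S)
    (hSR : ∀ a ∈ R, conjBy S a = S) (hS' : IsSyl p G S') (hS'R : ∀ a ∈ R, conjBy S' a = S') :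
    ∃ c ∈ G, (∀ a ∈ R, c * a = a * c) ∧ conjBy S c = S' := by
  have : Group.IsNilpotent R := hR.isNilpotent
  let toSyl : ∀ T, IsSyl p G T → Sylow p G := fun T hT => Sylow.ofCard (T.subgroupOf G) (by
    rw [Nat.card_congr (subgroupOfEquivOfLe hT.1).toEquiv]; exact hT.2)
  have hmap : ∀ T (hT : IsSyl p G T), ((toSyl T hT : Sylow p G) : Subgroup G).map G.subtype = T :=
    fun T hT => map_subgroupOf_eq_of_le hT.1
  obtain ⟨c, hc, he⟩ := Coprime.exists_centralizer_conj_sylow
    (fun a ha => conjBy_eq_self_iff.mp (hn a ha)) (coprime_card hR hcop) (Or.inl inferInstance)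
    (toSyl S hS) (toSyl S' hS')
    (fun a ha => conjBy_eq_self_iff.mp (by rw [hmap S hS]; exact hSR a ha))
    (fun a ha => conjBy_eq_self_iff.mp (by rw [hmap S' hS']; exact hS'R a ha))
  refine ⟨c, c.2, fun a ha => (mem_centralizer_iff.mp hc a ha).symm, ?_⟩
  rw [← Sylow.smul_def] at he
  refine Eq.trans ?_ (hmap S' hS')
  rw [← he, Sylow.coe_subgroup_smul, Coprime.conj_smul_map_subtype, hmap S hS, Coprime.conj_smul_eq_map]

theorem le_iCore (hR : IsPGroup r R) (hcop : (Nat.card G).Coprime r)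
    (hn : ∀ a ∈ R, conjBy G a = G) {U : Subgroup X} (hUG : U ≤ G) (hU : IsPGroup p U)
    (hUR : ∀ a ∈ R, conjBy U a = U)
    (hUc : ∀ c ∈ G, (∀ a ∈ R, c * a = a * c) → conjBy U c = U) : U ≤ iCore p G R := by
  obtain ⟨S, hS, hUS, hSR⟩ := exists_inv_syl hR hcop hn hUG hU hUR
  refine le_inf hUG (le_iInf₂ fun S' hS' => ?_)
  obtain ⟨c, hc, hca, rfl⟩ := exists_conj_inv hR hcop hn hS hSR hS'.1 hS'.2
  rw [← hUc c hc hca]
  exact conjBy_mono hUS c

/-- The intersection for a subgroup normalised by the fixed points is cut out by it. -/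
theorem iCore_inf (hR : IsPGroup r R) (hcop : (Nat.card G).Coprime r)
    (hn : ∀ a ∈ R, conjBy G a = G) {N : Subgroup X} (hNG : N ≤ G)
    (hNR : ∀ a ∈ R, conjBy N a = N)
    (hNc : ∀ c ∈ G, (∀ a ∈ R, c * a = a * c) → conjBy N c = N) :
    iCore p N R = iCore p G R ⊓ N := by
  have hcopN : (Nat.card N).Coprime r := hcop.coprime_dvd_left (card_dvd_of_le hNG)
  refine le_antisymm (le_inf ?_ (iCore_le N R)) fun x hx => ?_
  · intro x hx
    refine (mem_iCore_iff hR hcop hn).mpr fun S hS hSR => ?_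
    obtain ⟨T, hT, -, hTR⟩ := exists_inv_syl (p := p) hR hcopN hNR bot_le IsPGroup.of_bot
      (fun a _ => conjBy_bot a)
    obtain ⟨S₁, hS₁, hTS₁, hS₁R⟩ := exists_inv_syl hR hcop hn (hT.1.trans hNG) hT.isPGroup hTR
    obtain ⟨c, hc, hca, rfl⟩ := exists_conj_inv hR hcop hn hS₁ hS₁R hS hSR
    exact conjBy_mono hTS₁ c (iCore_le_syl (hT.conjBy (hNc c hc hca))
      (conjBy_of_commute hca hTR) hx)
  · exact (mem_iCore_iff hR hcopN hNR).mpr ((inAllSyl_of_mem hx.1).restrict hR hcop hn hNG hx.2)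

omit [Fact r.Prime] in
/-- If the p'-elements of C commute with R, then C is their product with a Sylow p-subgroup. -/
theorem exists_fixed_mul {C S : Subgroup X} (hS : IsSyl p C S)
    (hfix : ∀ x ∈ C, (orderOf x).Coprime p → ∀ a ∈ R, x * a = a * x) {c : X} (hc : c ∈ C) :
    ∃ k ∈ C, (∀ a ∈ R, k * a = a * k) ∧ ∃ s ∈ S, c = k * s := by
  set E : Subgroup X := closure {x | x ∈ C ∧ (orderOf x).Coprime p}
  have hEC : E ≤ C := (closure_le _).mpr fun x hx => hx.1
  have hER : E ≤ centralizer (R : Set X) := (closure_le _).mpr fun x hx =>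
    mem_centralizer_iff.mpr fun a ha => (hfix x hx.1 hx.2 a ha).symm
  have hEn : C ≤ normalizer (E : Set X) := fun g hg => conjBy_eq_self_iff.mp (by
    refine conjBy_eq_self_of_forall fun z hz => ?_
    induction hz using closure_induction with
    | mem y hy =>
      exact subset_closure ⟨C.mul_mem (C.mul_mem hg hy.1) (C.inv_mem hg),
        by rw [show orderOf (g * y * g⁻¹) = orderOf y from
          orderOf_injective (MulAut.conj g).toMonoidHom (MulAut.conj g).injective y]; exact hy.2⟩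
    | one => simp [one_mem]
    | mul y z _ _ hy hz => simpa [mul_assoc] using mul_mem hy hz
    | inv y _ hy => simpa [mul_assoc] using inv_mem hy)
  have hle : C ≤ E ⊔ S := by
    refine Coprime.le_of_forall_sylow_le fun q hq => ?_
    have := Fact.mk hq
    rcases eq_or_ne q p with rfl | hqp
    · refine ⟨Sylow.ofCard (S.subgroupOf C) (by
        rw [Nat.card_congr (subgroupOfEquivOfLe hS.1).toEquiv]; exact hS.2), ?_⟩
      exact (map_subgroupOf_eq_of_le hS.1).le.trans le_sup_right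
    · obtain ⟨P⟩ : Nonempty (Sylow q C) := inferInstance
      refine ⟨P, ?_⟩
      rintro _ ⟨y, hy, rfl⟩
      refine mem_sup_left (subset_closure ⟨y.2, ?_⟩)
      obtain ⟨i, hi⟩ := IsPGroup.iff_orderOf.mp P.isPGroup' ⟨y, hy⟩
      show (orderOf (y : X)).Coprime p
      rw [orderOf_coe, ← orderOf_mk (H := (P : Subgroup C)) y hy, hi]
      exact ((Nat.coprime_primes hq hp.out).mpr hqp).pow_left i
  have hmem := hle hc
  rw [← SetLike.mem_coe, coe_mul_of_right_le_normalizer_left _ _ (hS.1.trans hEn)] at hmem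
  obtain ⟨k, hk, s, hs, rfl⟩ := Set.mem_mul.mp hmem
  exact ⟨k, hEC hk, fun a ha => (mem_centralizer_iff.mp (hER hk) a ha).symm, s, hs, rfl⟩

end Cfsg.Agent.FlavellCentral
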