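import Cfsg.Agent.FlavellCentral.Facts
import Cfsg.Agent.FlavellCentral.Invariant
import Cfsg.Agent.FlavellQuad.Reduce

/-!
# The K-infinity subgroup when the p'-elements centralising the p-core commute with R
-/

set_option autoImplicit false

namespace Cfsg.Agent.FlavellCentral

open Cfsg Subgroup
open Cfsg.Agent.RootSub Cfsg.Agent.FlavellQuad
open scoped commutatorElement

universe u

variable {p r : ℕ} [Fact p.Prime] [Fact r.Prime]

section Inner

variable {Y : Type u} [Group Y] [Finite Y] {G R : Subgroup Y} [G.Normal]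

theorem kInf_normal_of_commute (hp : 5 ≤ p) (hR : IsPGroup r R) (hcop : (Nat.card G).Coprime r)
    {P : Subgroup Y} (hPG : P ≤ G) (hTP : Cfsg.pCore p Y ≤ P)
    (hPall : ∀ g ∈ P, InAllSyl p G R g)
    (hC : ∀ x ∈ G, (orderOf x).Coprime p → x ∈ centralizer (Cfsg.pCore p Y : Set Y) →
      ∀ a ∈ R, x * a = a * x) :
    (Cfsg.inducedFunctor Cfsg.kInfLower P).Normal := by
  by_contra hK
  obtain ⟨A, hAT, hAn, -, hTA, -, hA5⟩ := KInf.exists_critical_pCore (G := Y) (p := p)
  set T := Cfsg.pCore p Y with hT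
  set Z := A ⊓ centralizer (A : Set Y) with hZ
  obtain ⟨g, hgP, hgT, -, hZgg, hor⟩ :=
    KInfGen.exists_cubic P hTP A Z hAT hZ hTA (Or.inl hK)
  have hTp : IsPGroup p T := Core.pCore_isPGroup
  have htriv : ∀ U V, Cfsg.IsChiefFactor U V → U ≤ A →
      ⁅⁅U, zpowers g⁆, zpowers g⁆ ≤ V → KInf.TrivOn g U V := fun U V hUV hUA hq =>
    trivOn_of_quadratic (G := G) hp hR hcop hUV (hTp.to_le (hUA.trans hAT)) (hPall g hgP) hq
  have hZ2 : ∀ U V : Subgroup Y, U ≤ Z → ⁅⁅U, zpowers g⁆, zpowers g⁆ ≤ V := fun U V hU =>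
    ((commutator_mono (commutator_mono hU le_rfl) le_rfl).trans hZgg.le).trans bot_le
  rcases hor with ⟨U, V, hUV, hUZ, hne⟩ | hor
  · exact hne (htriv U V hUV (hUZ.trans inf_le_left) (hZ2 U V hUZ))
  set K := KInf.kerOn (G := Y) fun U V => U ≤ Z ∨ (Z ≤ V ∧ U ≤ A) with hKdef
  have hgK : g ∈ K := by
    rintro U V hUV (hU | ⟨hV, hU⟩)
    · exact htriv U V hUV (hU.trans inf_le_left) (hZ2 U V hU)
    · exact htriv U V hUV hU (hor U V hUV hV hU)
  set N := K ⊓ G with hN
  have hfix : ∀ x ∈ N, (orderOf x).Coprime p → ∀ a ∈ R, x * a = a * x := by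
    intro k hk ha
    have h1 : ∀ z ∈ Z, k * z * k⁻¹ = z :=
      KInf.centralizes_of_trivOn (Z₀ := (⊥ : Subgroup Y)) (hTp.to_le (inf_le_left.trans hAT)) bot_le
        ha (fun w hw => by rw [mem_bot.mp hw, mul_one, mul_inv_cancel])
        fun U V hUV _ hU => hk.1 U V hUV (Or.inl hU)
    have h2 : ∀ z ∈ A, k * z * k⁻¹ = z := KInf.centralizes_of_trivOn (hTp.to_le hAT) inf_le_left
      ha h1 fun U V hUV hV hU => hk.1 U V hUV (Or.inr ⟨hV, hU⟩)
    have h3 := hA5 (MulAut.conjNormal k) (Nat.Coprime.coprime_dvd_left (orderOf_map_dvd _ k) ha)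
      fun z hz => Subtype.ext (by rw [MulAut.conjNormal_apply]; exact h2 z hz)
    refine hC k hk.2 ha (mem_centralizer_iff.mpr fun z hz => ?_)
    have h4 : k * z * k⁻¹ = z := by
      rw [← MulAut.conjNormal_apply k ⟨z, hz⟩, h3]; rfl
    exact (mul_inv_eq_iff_eq_mul.mp h4).symm
  have hn : ∀ a ∈ R, conjBy G a = G := fun a _ =>
    conjBy_eq_self_of_forall fun x hx => (inferInstance : G.Normal).conj_mem x hx a
  have hNn : ∀ y : Y, conjBy N y = N := fun y =>
    conjBy_eq_self_of_forall fun x hx => ⟨(KInf.kerOn_normal _).conj_mem x hx.1 y,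
      (inferInstance : G.Normal).conj_mem x hx.2 y⟩
  have hcopN : (Nat.card N).Coprime r := hcop.coprime_dvd_left (card_dvd_of_le inf_le_right)
  obtain ⟨S₀, hS₀, -, hS₀R⟩ := exists_inv_syl (p := p) hR hcopN (fun a _ => hNn a) bot_le
    IsPGroup.of_bot (fun a _ => conjBy_bot a)
  have hall : ∀ S, IsSyl p N S → ∀ a ∈ R, conjBy S a = S := by
    intro S hS
    obtain ⟨c, hc, hle⟩ := hS₀.exists_conj hS.isPGroup hS.1
    obtain ⟨k, -, hka, s, hs, rfl⟩ := exists_fixed_mul hS₀ hfix hc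
    rw [← conjBy_conjBy, conjBy_mem_self hs] at hle
    have hSk : S = conjBy S₀ k := hS.eq_of_le (hS₀.isPGroup.map _)
      ((conjBy_mono hS₀.1 k).trans (hNn k).le) hle
    rw [hSk]
    exact conjBy_of_commute hka hS₀R
  have hUn : ∀ y, conjBy (iCore p N R) y = iCore p N R := fun y =>
    conjBy_iCore (hNn y) fun S hS _ => hall _ (hS.conjBy (hNn _))
  haveI : (iCore p N R).Normal := ⟨fun x hx y => (hUn y).le (conjBy_mem hx y)⟩
  exact hgT (Core.le_pCore (N := iCore p N R) (iCore_isPGroup hR hcopN fun a _ => hNn a)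
    ((mem_iCore_iff hR hcopN fun a _ => hNn a).mpr
      ((hPall g hgP).restrict hR hcop hn inf_le_right ⟨hgK, hPG hgP⟩)))

end Inner

variable {X : Type u} [Group X] [Finite X] {H R : Subgroup X}

theorem opCore_le_iCore : opCore p H ≤ iCore p H R :=
  le_inf (opCore_le H) (le_iInf₂ fun _ hS => opCore_le_isSyl hS.1)

/-- The image in the ambient group of the lower K-infinity subgroup. -/
def kIn (P : Subgroup X) : Subgroup X := (Cfsg.kInfLower ↥P).map P.subtype

theorem kIn_le (P : Subgroup X) : kIn P ≤ P := map_subtype_le _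

theorem conjBy_kIn {P : Subgroup X} {g : X} (hg : conjBy P g = P) : conjBy (kIn P) g = kIn P := by
  let e : ↥P ≃* ↥(conjBy P g) := (MulAut.conj g).subgroupMap P
  have h : conjBy (kIn P) g = kIn (conjBy P g) := by
    rw [kIn, kIn, ← (KInf.map_kInf_equiv e).1, conjBy, map_map, map_map]
    rfl
  rw [h, hg]

theorem inf_centralizer_kIn_le {P : Subgroup X} (hP : IsPGroup p P) :
    P ⊓ centralizer (kIn P : Set X) ≤ kIn P := by
  rintro x ⟨hxP, hx⟩
  refine ⟨⟨x, hxP⟩, (KInf.centralizer_kInf_le hP).1 (mem_centralizer_iff.mpr fun w hw => ?_), rfl⟩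
  exact Subtype.ext (mem_centralizer_iff.mp hx w ⟨w, hw, rfl⟩)

/-- If R centralises the residual of F-star of H, then H normalises the K-infinity subgroup of the
intersection of its invariant Sylow p-subgroups. -/
theorem le_normalizer_kIn (hp : 5 ≤ p) (hpr : p ≠ r) (hR : IsPGroup r R)
    (hcop : (Nat.card H).Coprime r) (hn : ∀ a ∈ R, conjBy H a = H)
    (hX : R ≤ centralizer (xCore p H : Set X)) :
    H ≤ normalizer (kIn (iCore p H R) : Set X) := by
  set P := iCore p H R with hP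
  set Y : Subgroup X := H ⊔ R with hY
  have hHY : H ≤ Y := le_sup_left
  have hRY : R ≤ Y := le_sup_right
  set G' := H.subgroupOf Y with hG'
  set R' := R.subgroupOf Y with hR'
  have hnorm : R ≤ normalizer (H : Set X) := fun a ha => conjBy_eq_self_iff.mp (hn a ha)
  haveI : G'.Normal := normal_subgroupOf_of_le_normalizer (sup_le le_normalizer hnorm)
  have hR'r : IsPGroup r R' := IsPGroup.of_equiv hR (subgroupOfEquivOfLe hRY).symm
  have hcop' : (Nat.card G').Coprime r := by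
    rwa [hG', Nat.card_congr (subgroupOfEquivOfLe hHY).toEquiv]
  have hsup : G' ⊔ R' = ⊤ := by
    rw [hG', hR', ← subgroupOf_sup hHY hRY, hY, subgroupOf_self]
  have hTG : Cfsg.pCore p ↥Y ≤ G' := by
    intro t ht
    obtain ⟨g, hg, a, ha, rfl⟩ := mem_sup_of_normal_left.mp (hsup.ge (mem_top t))
    set f := QuotientGroup.mk' G'
    have he : f (g * a) = f a := by
      rw [map_mul, (QuotientGroup.eq_one_iff g).mpr hg |> fun e => show f g = 1 from e, one_mul]
    obtain ⟨i, hi⟩ := Core.pCore_isPGroup ⟨g * a, ht⟩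
    obtain ⟨j, hj⟩ := hR'r ⟨a, ha⟩
    have h1 : f a ^ p ^ i = 1 := by
      rw [← he, ← map_pow, show (g * a) ^ p ^ i = 1 from congrArg Subtype.val hi, map_one]
    have h2 : f a ^ r ^ j = 1 := by
      rw [← map_pow, show a ^ r ^ j = 1 from congrArg Subtype.val hj, map_one]
    have h3 : f a ^ 1 = 1 := by
      have := pow_gcd_eq_one.mpr ⟨h1, h2⟩
      rwa [Nat.Coprime.gcd_eq_one
        (((Nat.coprime_primes (Fact.out : p.Prime) (Fact.out : r.Prime)).mpr hpr).pow i j)] at this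
    rw [pow_one] at h3
    exact (QuotientGroup.eq_one_iff _).mp (he.trans h3)
  let e : ↥G' ≃* ↥H := subgroupOfEquivOfLe hHY
  have hcore : (Cfsg.pCore p ↥G').map e.toMonoidHom = Cfsg.pCore p ↥H := Core.map_pCore e
  have hTmap : (Cfsg.pCore p ↥G').map G'.subtype = Cfsg.pCore p ↥Y := by
    rw [Core.map_pCore_normal, inf_eq_left.mpr hTG]
  have hPH : P ≤ H := iCore_le H R
  have hTP' : Cfsg.pCore p ↥Y ≤ P.subgroupOf Y := by
    rw [← hTmap]
    rintro _ ⟨t, ht, rfl⟩
    exact mem_subgroupOf.mpr (opCore_le_iCore ⟨e t, hcore ▸ mem_map_of_mem _ ht, rfl⟩)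
  have hC : ∀ x ∈ G', (orderOf x).Coprime p → x ∈ centralizer (Cfsg.pCore p ↥Y : Set ↥Y) →
      ∀ a ∈ R', x * a = a * x := by
    intro x hx ho hxc a ha
    refine Subtype.ext (commute_of_centralizes_opCore (p := p) hR hcop hn hX
      (mem_subgroupOf.mp hx) (mem_centralizer_iff.mpr ?_) (by rwa [orderOf_coe])
      (mem_subgroupOf.mp ha))
    intro y hy
    obtain ⟨t, ht, rfl⟩ := hy
    rw [← hcore] at ht
    obtain ⟨t', ht', rfl⟩ := ht
    exact congrArg (fun z : ↥Y => (z : X))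
      (mem_centralizer_iff.mp hxc _ (hTmap.le ⟨t', ht', rfl⟩))
  have hnormal : (Cfsg.inducedFunctor Cfsg.kInfLower (P.subgroupOf Y)).Normal :=
    kInf_normal_of_commute hp hR'r hcop' (fun x hx => mem_subgroupOf.mpr (hPH hx)) hTP'
      (fun g hg => (inAllSyl_of_mem (G := H) (R := R) (mem_subgroupOf.mp hg)).subgroupOf hHY hRY g.2)
      hC
  have hmap : kIn P = (Cfsg.inducedFunctor Cfsg.kInfLower (P.subgroupOf Y)).map Y.subtype := by
    rw [kIn, ← (KInf.map_kInf_equiv (subgroupOfEquivOfLe (hPH.trans hHY))).1, Cfsg.inducedFunctor,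
      map_map, map_map]
    rfl
  rw [hmap]
  intro g hg
  refine conjBy_eq_self_iff.mp (conjBy_eq_self_of_forall ?_)
  rintro _ ⟨z, hz, rfl⟩
  exact ⟨⟨g, hHY hg⟩ * z * ⟨g, hHY hg⟩⁻¹, hnormal.conj_mem z hz _, rfl⟩

end Cfsg.Agent.FlavellCentral
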