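import Cfsg.Agent.FlavellCentral.KInfNormal
import Cfsg.Agent.FlavellCentral.Frobenius
import Mathlib.GroupTheory.Nilpotent

/-!
# A noncyclic abelian group of operators centralising the local residuals
-/

set_option autoImplicit false

namespace Cfsg.Agent.FlavellCentral

open Cfsg Subgroup
open Cfsg.Agent.RootSub Cfsg.Agent.FlavellQuad

universe u

variable {X : Type u} [Group X]

theorem conjBy_inf_eq {A B : Subgroup X} {g : X} (hA : conjBy A g = A) (hB : conjBy B g = B) :
    conjBy (A ⊓ B) g = A ⊓ B := by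
  rw [conjBy, map_inf_eq _ _ _ (MulAut.conj g).injective]
  exact congrArg₂ (· ⊓ ·) hA hB

theorem conjBy_sup_eq {A B : Subgroup X} {g : X} (hA : conjBy A g = A) (hB : conjBy B g = B) :
    conjBy (A ⊔ B) g = A ⊔ B := by
  rw [conjBy, Subgroup.map_sup]
  exact congrArg₂ (· ⊔ ·) hA hB

theorem conjBy_centralizer {A : Subgroup X} {g : X} (hA : conjBy A g = A) :
    conjBy (centralizer (A : Set X)) g = centralizer (A : Set X) :=
  conjBy_eq_self_iff.mpr
    (Coprime.le_normalizer_centralizer (S := (A : Set X)) (A := zpowers g)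
      (zpowers_le.mpr (conjBy_eq_self_iff.mp hA)) (mem_zpowers g))

theorem conjBy_normalizer {A : Subgroup X} {g : X} (hA : conjBy A g = A) :
    conjBy (normalizer (A : Set X)) g = normalizer (A : Set X) :=
  conjBy_mem_self (conjBy_eq_self_iff.mp hA)

variable [Finite X]

theorem conjBy_centralizer_singleton {a g : X} (h : g * a = a * g) :
    conjBy (centralizer ({a} : Set X)) g = centralizer ({a} : Set X) :=
  conjBy_mem_self (mem_centralizer_singleton_iff.mpr h)

/-- The centraliser of an element of R inside G. -/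
def fixedIn (G : Subgroup X) (a : X) : Subgroup X := G ⊓ centralizer ({a} : Set X)

omit [Finite X] in
theorem mem_fixedIn {G : Subgroup X} {a g : X} : g ∈ fixedIn G a ↔ g ∈ G ∧ g * a = a * g :=
  and_congr_right fun _ => mem_centralizer_singleton_iff

omit [Finite X] in
theorem fixedIn_le (G : Subgroup X) (a : X) : fixedIn G a ≤ G := inf_le_left

theorem conjBy_fixedIn {G : Subgroup X} {a g : X} (hG : conjBy G g = G) (h : g * a = a * g) :
    conjBy (fixedIn G a) g = fixedIn G a :=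
  conjBy_inf_eq hG (conjBy_centralizer_singleton h)

variable {p r : ℕ} [Fact p.Prime] [Fact r.Prime] {R : Subgroup X}

/-- The hypothesis of the theorem. -/
structure Hyp (p r : ℕ) (R G : Subgroup X) : Prop where
  inv : ∀ a ∈ R, conjBy G a = G
  cop : (Nat.card G).Coprime r
  loc : ∀ a ∈ R, a ≠ 1 → R ≤ centralizer (xCore p (fixedIn G a) : Set X)

theorem Hyp.fixed_inv (hab : ∀ a ∈ R, ∀ b ∈ R, a * b = b * a) {G : Subgroup X} (h : Hyp p r R G)
    {a : X} (ha : a ∈ R) : ∀ b ∈ R, conjBy (fixedIn G a) b = fixedIn G a := fun b hb =>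
  conjBy_fixedIn (h.inv b hb) (hab b hb a ha)

theorem Hyp.cop_le {G K : Subgroup X} (h : Hyp p r R G) (hK : K ≤ G) : (Nat.card K).Coprime r :=
  h.cop.coprime_dvd_left (card_dvd_of_le hK)

/-- The hypothesis passes to normal subgroups. -/
theorem Hyp.of_normal {G N : Subgroup X} (h : Hyp p r R G) (hNG : N ≤ G)
    (hn : ∀ g ∈ G, conjBy N g = N) (hNR : ∀ b ∈ R, conjBy N b = N) : Hyp p r R N := by
  refine ⟨hNR, h.cop_le hNG, fun a ha ha1 => (h.loc a ha ha1).trans (centralizer_le ?_)⟩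
  refine xCore_mono (inf_le_inf_right _ hNG) fun g hg => ?_
  exact conjBy_fixedIn (hn g (mem_fixedIn.mp hg).1) (mem_fixedIn.mp hg).2

variable (hR : IsPGroup r R) (hab : ∀ a ∈ R, ∀ b ∈ R, a * b = b * a)

include hR hab in
theorem opCore_fixedIn_le_iCore {G : Subgroup X} (h : Hyp p r R G) {a : X} (ha : a ∈ R) :
    opCore p (fixedIn G a) ≤ iCore p G R :=
  le_iCore hR h.cop h.inv ((opCore_le _).trans (fixedIn_le G a)) (opCore_isPGroup _)
    (fun b hb => conjBy_opCore (h.fixed_inv hab ha b hb))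
    fun _ hc hca => conjBy_opCore_self (mem_fixedIn.mpr ⟨hc, hca a ha⟩)

include hR hab in
theorem fixed_commute {G : Subgroup X} (h : Hyp p r R G) {a : X} (ha : a ∈ R) (ha1 : a ≠ 1) {x : X}
    (hx : x ∈ fixedIn G a) (hxT : x ∈ centralizer (opCore p (fixedIn G a) : Set X))
    (ho : (orderOf x).Coprime p) {b : X} (hb : b ∈ R) : x * b = b * x :=
  commute_of_centralizes_opCore hR (h.cop_le (fixedIn_le G a)) (h.fixed_inv hab ha)
    (h.loc a ha ha1) hx hxT ho hb

include hR hab in
/-- The case where the intersection of the invariant Sylow subgroups is central. -/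
theorem central_case {G : Subgroup X} (h : Hyp p r R G) (hnc : ¬ IsCyclic ↥R)
    (hG : xCore p G = G) (hP : G ≤ centralizer (iCore p G R : Set X)) :
    R ≤ centralizer (G : Set X) := by
  set P := iCore p G R with hPdef
  have hPR : ∀ b ∈ R, conjBy P b = P := fun b hb => conjBy_iCore_of_mem_R h.inv hb
  have hPc : ∀ g ∈ G, ∀ z ∈ P, z * g = g * z := fun g hg z hz =>
    mem_centralizer_iff.mp (hP hg) z hz
  let S : Subgroup X :=
    { carrier := {x | x ∈ G ∧ ∀ b ∈ R, x * b * x⁻¹ * b⁻¹ ∈ P}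
      one_mem' := ⟨one_mem _, fun b _ => by simp [one_mem]⟩
      mul_mem' := by
        rintro x y ⟨hx, hx'⟩ ⟨hy, hy'⟩
        refine ⟨G.mul_mem hx hy, fun b hb => ?_⟩
        have he : x * y * b * (x * y)⁻¹ * b⁻¹ =
            (y * b * y⁻¹ * b⁻¹) * (x * b * x⁻¹ * b⁻¹) := by
          calc x * y * b * (x * y)⁻¹ * b⁻¹
              = x * (y * b * y⁻¹ * b⁻¹) * x⁻¹ * (x * b * x⁻¹ * b⁻¹) := by group
            _ = _ := by rw [← hPc x hx _ (hy' b hb), mul_inv_cancel_right]
        rw [he]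
        exact P.mul_mem (hy' b hb) (hx' b hb)
      inv_mem' := by
        rintro x ⟨hx, hx'⟩
        refine ⟨G.inv_mem hx, fun b hb => ?_⟩
        have he : x⁻¹ * b * x⁻¹⁻¹ * b⁻¹ = (x * b * x⁻¹ * b⁻¹)⁻¹ := by
          calc x⁻¹ * b * x⁻¹⁻¹ * b⁻¹ = x⁻¹ * ((x * b * x⁻¹ * b⁻¹)⁻¹ * x) := by group
            _ = _ := by rw [hPc x hx _ (P.inv_mem (hx' b hb)), inv_mul_cancel_left]
        rw [he]
        exact P.inv_mem (hx' b hb) }
  have hab' : IsMulCommutative ↥R := ⟨⟨fun x y => Subtype.ext (hab x x.2 y y.2)⟩⟩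
  have hle : G ≤ S := by
    conv_lhs => rw [← Coprime.iSup_centralizer_eq (K := G) hnc
      (fun b hb => conjBy_eq_self_iff.mp (h.inv b hb)) (coprime_card hR h.cop)]
    refine iSup₂_le fun a ha x hx => ⟨hx.1, fun b hb => ?_⟩
    have hT := opCore_fixedIn_le_iCore hR hab h ha.1
    refine hT (commutator_le_opCore hR (h.cop_le (fixedIn_le G a)) (h.fixed_inv hab ha.1)
      (h.loc a ha.1 ha.2) (commutator_mem_commutator ⟨hx, ?_⟩ hb))
    exact (hP.trans (centralizer_le hT)) hx.1
  refine le_centralizer_iff.mp ?_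
  rw [← hG, xCore, closure_le]
  rintro x ⟨hx, ho⟩
  refine mem_centralizer_iff.mpr fun b hb => ?_
  have hxG : x ∈ G := fst_le G hx
  have h1 := eq_one_of_stable (iCore_isPGroup hR h.cop h.inv) ho ((hle hxG).2 b hb)
    (hPc x hxG _ ((hle hxG).2 b hb)).symm
  rw [mul_inv_eq_one, mul_inv_eq_iff_eq_mul] at h1
  exact h1.symm

variable {G : Subgroup X} {a : X}

/-- The subgroups used to reach the K-infinity subgroup. -/
structure Adm (p : ℕ) (R G : Subgroup X) (a : X) (Y : Subgroup X) : Prop where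
  le : Y ≤ iCore p G R
  inv : ∀ b ∈ R, conjBy Y b = Y
  fix : ∀ g ∈ fixedIn G a, conjBy Y g = Y
  self : iCore p G R ⊓ centralizer (Y : Set X) ≤ Y

include hR hab in
/-- A subgroup holding the centraliser of itself in the p-core of the fixed points gives an
admissible one. -/
theorem adm_sup (h : Hyp p r R G) (ha : a ∈ R) (ha1 : a ≠ 1) {W : Subgroup X}
    (hW : W ≤ iCore p G R) (hWR : ∀ b ∈ R, conjBy W b = W)
    (hWM : ∀ g ∈ fixedIn G a, conjBy W g = W)
    (hWT : opCore p (fixedIn G a) ⊓ centralizer (W : Set X) ≤ W) :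
    Adm p R G a (W ⊔ (iCore p G R ⊓ centralizer (W : Set X))) := by
  set M := fixedIn G a with hM
  set T := opCore p M with hT
  set N := G ⊓ centralizer (W : Set X) with hN
  set C := M ⊓ centralizer (W : Set X) with hC
  have hMR := h.fixed_inv hab ha
  have hNR : ∀ b ∈ R, conjBy N b = N := fun b hb =>
    conjBy_inf_eq (h.inv b hb) (conjBy_centralizer (hWR b hb))
  have hNM : ∀ g ∈ M, conjBy N g = N := fun g hg =>
    conjBy_inf_eq (conjBy_mem_self (fixedIn_le G a hg)) (conjBy_centralizer (hWM g hg))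
  have hCR : ∀ b ∈ R, conjBy C b = C := fun b hb =>
    conjBy_inf_eq (hMR b hb) (conjBy_centralizer (hWR b hb))
  have hcopN := h.cop_le (inf_le_left : N ≤ G)
  have hcopC := h.cop_le ((inf_le_left : C ≤ M).trans (fixedIn_le G a))
  -- the p'-elements of C commute with R
  have hfix : ∀ x ∈ C, (orderOf x).Coprime p → ∀ b ∈ R, x * b = b * x := by
    intro x hx ho b hb
    refine fixed_commute hR hab h ha ha1 hx.1 (mem_centralizer_iff.mpr fun t ht => ?_) ho hb
    have htM : t ∈ M := opCore_le M ht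
    have hwT : x * t * x⁻¹ * t⁻¹ ∈ T :=
      T.mul_mem ((conjBy_opCore_self (p := p) hx.1).le (conjBy_mem ht x)) (T.inv_mem ht)
    have hwC : x * t * x⁻¹ * t⁻¹ ∈ centralizer (W : Set X) := by
      rw [show x * t * x⁻¹ * t⁻¹ = x * (t * x⁻¹ * t⁻¹) by group]
      exact mul_mem hx.2 ((conjBy_centralizer (hWM t htM)).le (conjBy_mem (inv_mem hx.2) t))
    have h1 := eq_one_of_stable (opCore_isPGroup M) ho hwT
      (mem_centralizer_iff.mp hx.2 _ (hWT ⟨hwT, hwC⟩)).symm
    rw [mul_inv_eq_one, mul_inv_eq_iff_eq_mul] at h1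
    exact h1.symm
  obtain ⟨SC, hSC, -, hSCR⟩ := exists_inv_syl (p := p) hR hcopC hCR bot_le IsPGroup.of_bot
    (fun b _ => conjBy_bot b)
  obtain ⟨S, hS, hSCS, hSR⟩ := exists_inv_syl hR hcopN hNR
    (hSC.1.trans (inf_le_inf_right _ (fixedIn_le G a))) hSC.isPGroup hSCR
  -- the Sylow subgroups of N fixed by a are fixed by R
  have hall : ∀ S', IsSyl p N S' → conjBy S' a = S' → ∀ b ∈ R, conjBy S' b = S' := by
    intro S' hS' hS'a
    have hza : zpowers a ≤ R := zpowers_le.mpr ha
    have hpow : ∀ (V : Subgroup X), conjBy V a = V → ∀ b ∈ zpowers a, conjBy V b = V :=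
      fun V hV b hb => conjBy_eq_self_iff.mpr (zpowers_le.mpr (conjBy_eq_self_iff.mp hV) hb)
    obtain ⟨c, hc, hca, hcS⟩ := exists_conj_inv (R := zpowers a) (hR.to_le hza) hcopN
      (fun b hb => hNR b (hza hb)) hS (fun b hb => hSR b (hza hb)) hS' (hpow S' hS'a)
    have hcC : c ∈ C :=
      ⟨mem_fixedIn.mpr ⟨hc.1, hca a (mem_zpowers a)⟩, hc.2⟩
    obtain ⟨k, -, hka, s, hs, rfl⟩ := exists_fixed_mul hSC hfix hcC
    rw [← hcS, ← conjBy_conjBy, conjBy_mem_self (hSCS hs)]
    exact conjBy_of_commute hka hSR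
  have hPN : iCore p G R ⊓ centralizer (W : Set X) = iCore p N R := by
    rw [iCore_inf hR h.cop h.inv (inf_le_left : N ≤ G) hNR fun c hc hca =>
      hNM c (mem_fixedIn.mpr ⟨hc, hca a ha⟩), ← inf_assoc, inf_eq_left.mpr (iCore_le G R)]
  refine ⟨sup_le hW inf_le_left, fun b hb => conjBy_sup_eq (hWR b hb)
    (conjBy_inf_eq (conjBy_iCore_of_mem_R h.inv hb) (conjBy_centralizer (hWR b hb))),
    fun g hg => conjBy_sup_eq (hWM g hg) ?_, ?_⟩
  · rw [hPN]
    refine conjBy_iCore (hNM g hg) fun S' hS' hS'R => hall _ (hS'.conjBy (hNM _ (inv_mem hg))) ?_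
    have hga : g⁻¹ * a = a * g⁻¹ := (mem_fixedIn.mp (inv_mem hg)).2
    rw [conjBy_conjBy, ← hga, ← conjBy_conjBy, hS'R a ha]
  · exact (inf_le_inf_left _ (centralizer_le (SetLike.coe_subset_coe.mpr le_sup_left))).trans
      le_sup_right

include hR hab in
/-- The residual of F-star of the normaliser of an admissible subgroup satisfies the hypothesis. -/
theorem hyp_inner (h : Hyp p r R G) (hpr : p ≠ r) (har : a ^ r = 1) (ha : a ∈ R) (ha1 : a ≠ 1)
    {Y : Subgroup X} (hY : Adm p R G a Y) :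
    Hyp p r R (xCore p (G ⊓ normalizer (Y : Set X))) := by
  set P := iCore p G R with hPdef
  set M := fixedIn G a with hM
  set T := opCore p M with hT
  set H := G ⊓ normalizer (Y : Set X) with hH
  set V := xCore p H with hV
  have hPp : IsPGroup p P := iCore_isPGroup hR h.cop h.inv
  have hYH : Y ≤ H := le_inf (hY.le.trans (iCore_le G R)) le_normalizer
  have hMH : M ≤ H := le_inf (fixedIn_le G a) fun g hg => conjBy_eq_self_iff.mp (hY.fix g hg)
  have hVH : V ≤ H := xCore_le H
  have hVG : V ≤ G := hVH.trans inf_le_left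
  have hHR : ∀ b ∈ R, conjBy H b = H := fun b hb =>
    conjBy_inf_eq (h.inv b hb) (conjBy_normalizer (hY.inv b hb))
  have hVR : ∀ b ∈ R, conjBy V b = V := fun b hb => conjBy_xCore (hHR b hb)
  have hVn : ∀ g ∈ H, conjBy V g = V := fun g hg => conjBy_xCore (conjBy_mem_self hg)
  have hVY : V ≤ centralizer (Y : Set X) :=
    le_centralizer_xCore hYH (hPp.to_le hY.le) fun g hg => conjBy_eq_self_iff.mpr hg.2
  -- the p'-elements of V commuting with a
  have hVa : ∀ x ∈ V, x * a = a * x → (orderOf x).Coprime p →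
      (∀ b ∈ R, x * b = b * x) ∧ x ∈ centralizer (P : Set X) := by
    intro x hx hxa ho
    have hxM : x ∈ M := mem_fixedIn.mpr ⟨hVG hx, hxa⟩
    have hxT : x ∈ centralizer (T : Set X) := by
      refine mem_centralizer_iff.mpr fun t ht => ?_
      have hwT : x * t * x⁻¹ * t⁻¹ ∈ T :=
        T.mul_mem ((conjBy_opCore_self (p := p) hxM).le (conjBy_mem ht x)) (T.inv_mem ht)
      have hwV : x * t * x⁻¹ * t⁻¹ ∈ V := by
        rw [show x * t * x⁻¹ * t⁻¹ = x * (t * x⁻¹ * t⁻¹) by group]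
        exact mul_mem hx ((hVn t (hMH (opCore_le M ht))).le (conjBy_mem (inv_mem hx) t))
      have hwY : x * t * x⁻¹ * t⁻¹ ∈ Y :=
        hY.self ⟨opCore_fixedIn_le_iCore hR hab h ha hwT, hVY hwV⟩
      have h1 := eq_one_of_stable (opCore_isPGroup M) ho hwT
        (mem_centralizer_iff.mp (hVY hx) _ hwY).symm
      rw [mul_inv_eq_one, mul_inv_eq_iff_eq_mul] at h1
      exact h1.symm
    have hxR : ∀ b ∈ R, x * b = b * x := fun b hb =>
      fixed_commute hR hab h ha ha1 hxM hxT ho hb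
    refine ⟨hxR, ?_⟩
    have hxY : ∀ y ∈ Y, y * x = x * y := fun y hy => mem_centralizer_iff.mp (hVY hx) y hy
    refine Coprime.thompson_pxq (P := Y) (Q := zpowers x) (U := P) (hPp.to_le hY.le)
      (by rwa [Nat.card_zpowers]) hPp ?_ (hY.le.trans le_normalizer) ?_ ?_ (mem_zpowers x)
    · exact le_centralizer_iff.mp (zpowers_le.mpr (mem_centralizer_iff.mpr hxY))
    · exact zpowers_le.mpr (conjBy_eq_self_iff.mp
        (conjBy_iCore_of_commute (conjBy_mem_self (hVG hx)) hxR))
    · exact hY.self.trans (le_centralizer_iff.mp (zpowers_le.mpr (mem_centralizer_iff.mpr hxY)))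
  refine ⟨hVR, h.cop_le hVG, fun c hc hc1 => ?_⟩
  set K := fixedIn G c with hK
  set U := opCore p K with hU
  set V' := xCore p (fixedIn V c) with hV'
  have hV'V : V' ≤ fixedIn V c := xCore_le _
  have hV'K : V' ≤ K := hV'V.trans (inf_le_inf_right _ hVG)
  have hKR := h.fixed_inv hab hc
  have hUP : U ≤ P := opCore_fixedIn_le_iCore hR hab h hc
  have hUR : ∀ b ∈ R, conjBy U b = U := fun b hb => conjBy_opCore (hKR b hb)
  have hV'R : ∀ b ∈ R, conjBy V' b = V' := fun b hb =>
    conjBy_xCore (conjBy_fixedIn (hVR b hb) (hab b hb c hc))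
  have hUH : V' ≤ centralizer ((U ⊓ H : Subgroup X) : Set X) := by
    refine (xCore_mono (K := fixedIn H c) (inf_le_inf_right _ hVH) fun g hg => ?_).trans
      (le_centralizer_xCore ?_ ((opCore_isPGroup K).to_le inf_le_left) fun g hg => ?_)
    · exact conjBy_fixedIn (hVn g (mem_fixedIn.mp hg).1) (mem_fixedIn.mp hg).2
    · exact fun t ht => mem_fixedIn.mpr ⟨ht.2, (mem_fixedIn.mp (opCore_le K ht.1)).2⟩
    · obtain ⟨hgH, hgc⟩ := mem_fixedIn.mp hg
      exact conjBy_inf_eq (conjBy_opCore_self (mem_fixedIn.mpr ⟨hgH.1, hgc⟩)) (conjBy_mem_self hgH)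
  set E := V' ⊓ centralizer (U : Set X) with hE
  have hEn : ∀ g ∈ V', conjBy E g = E := fun g hg =>
    conjBy_inf_eq (conjBy_mem_self hg) (conjBy_centralizer (conjBy_opCore_self (hV'K hg)))
  -- every q-subgroup of V' centralises U
  have hq : ∀ q : ℕ, q.Prime → q ≠ p → ∀ Q : Subgroup X, Q ≤ V' → IsPGroup q Q → Q ≤ E := by
    intro q hq hqp Q hQ hQq
    have := Fact.mk hq
    obtain ⟨S, hS, -, hSR⟩ := exists_inv_syl (p := q) hR (h.cop_le (hV'K.trans (fixedIn_le G c)))
      hV'R bot_le IsPGroup.of_bot (fun b _ => conjBy_bot b)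
    have hSE : S ≤ E := by
      refine le_inf hS.1 ?_
      rcases eq_or_ne q r with hqr | hqr
      · have h1 : (Nat.card S).Coprime r := h.cop_le (hS.1.trans (hV'K.trans (fixedIn_le G c)))
        obtain ⟨i, hi⟩ := IsPGroup.iff_card.mp hS.isPGroup
        rw [hi, hqr] at h1
        have hi0 : i = 0 := by
          by_contra hne
          exact (Fact.out : r.Prime).one_lt.ne'
            (Nat.eq_one_of_dvd_coprimes h1 (dvd_pow_self r hne) dvd_rfl)
        rw [hi0, pow_zero, Subgroup.card_eq_one] at hi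
        rw [hi]
        exact bot_le
      refine frobenius_trivial (opCore_isPGroup K) hS.isPGroup hqp har (Ne.symm hpr) (Ne.symm hqr)
        (hUR a ha) (hSR a ha) (fun x hx => conjBy_opCore_self (hV'K (hS.1 hx))) ?_ ?_
      · intro t ht hat x hx
        have htH : t ∈ H := hMH (mem_fixedIn.mpr ⟨(opCore_le K ht).1, hat.symm⟩)
        exact (mem_centralizer_iff.mp (hUH (hS.1 hx)) t ⟨ht, htH⟩).symm
      · intro x hx hax t ht
        have ho : (orderOf x).Coprime p := by
          obtain ⟨i, hi⟩ := IsPGroup.iff_orderOf.mp hS.isPGroup ⟨x, hx⟩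
          rw [← orderOf_mk (H := S) x hx, hi]
          exact ((Nat.coprime_primes hq Fact.out).mpr hqp).pow_left i
        exact (mem_centralizer_iff.mp (hVa x (hV'V (hS.1 hx)).1 hax.symm ho).2 t (hUP ht)).symm
    obtain ⟨g, hg, hle⟩ := hS.exists_conj hQq hQ
    exact hle.trans ((conjBy_mono hSE g).trans (hEn g hg).le)
  refine le_centralizer_iff.mp ?_
  rw [hV', xCore, closure_le]
  rintro x ⟨hx, ho⟩
  refine mem_centralizer_iff.mpr fun b hb => ?_
  have hxV' : x ∈ V' := mem_xCore hx ho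
  have hxE : x ∈ E := by
    refine (Coprime.le_of_forall_sylow_le (K := zpowers x) (W := E) fun q hq' => ?_) (mem_zpowers x)
    have := Fact.mk hq'
    obtain ⟨Q⟩ : Nonempty (Sylow q (zpowers x)) := inferInstance
    refine ⟨Q, ?_⟩
    rcases eq_or_ne q p with hqp | hqp
    · obtain ⟨i, hi⟩ := IsPGroup.iff_card.mp Q.isPGroup'
      have hd : Nat.card (Q : Subgroup (zpowers x)) ∣ orderOf x :=
        (card_subgroup_dvd_card _).trans (Nat.card_zpowers x).dvd
      rw [hi, hqp] at hd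
      have hi0 : i = 0 := by
        by_contra hne
        exact (Fact.out : p.Prime).one_lt.ne'
          (Nat.eq_one_of_dvd_coprimes ho ((dvd_pow_self p hne).trans hd) dvd_rfl)
      rw [hi0, pow_zero, Subgroup.card_eq_one] at hi
      rw [hi, Subgroup.map_bot]
      exact bot_le
    · exact hq q hq' hqp _ ((map_subtype_le _).trans (zpowers_le.mpr hxV'))
        (Q.isPGroup'.map _)
  exact (fixed_commute hR hab h hc hc1 (hV'K hxV') hxE.2 ho hb).symm

include hR hab in
/-- The fixed points of an element of order r normalise the K-infinity subgroup. -/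
theorem fixedIn_le_normalizer_kIn (hp : 5 ≤ p) (h : Hyp p r R G) (hpr : p ≠ r)
    (har : a ^ r = 1) (ha : a ∈ R) (ha1 : a ≠ 1) (hG : xCore p G = G)
    (hnc : ¬ G ≤ centralizer (iCore p G R : Set X))
    (hIH : ∀ K : Subgroup X, Nat.card K < Nat.card G → Hyp p r R K →
      R ≤ centralizer (xCore p K : Set X)) :
    fixedIn G a ≤ normalizer (kIn (iCore p G R) : Set X) := by
  set P := iCore p G R with hPdef
  set M := fixedIn G a with hM
  set T := opCore p M with hT
  have hPp : IsPGroup p P := iCore_isPGroup hR h.cop h.inv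
  have hTP : T ≤ P := opCore_fixedIn_le_iCore hR hab h ha
  have hadm0 : ∃ Y, Adm p R G a Y := ⟨_, adm_sup hR hab h ha ha1 hTP
    (fun b hb => conjBy_opCore (h.fixed_inv hab ha b hb)) (fun g hg => conjBy_opCore_self hg)
    inf_le_left⟩
  haveI : Nonempty {Y : Subgroup X // Adm p R G a Y} := ⟨⟨_, hadm0.choose_spec⟩⟩
  obtain ⟨⟨Y, hY⟩, hmax⟩ := Finite.exists_max fun Y : {Y : Subgroup X // Adm p R G a Y} =>
    Nat.card ↥(P ⊓ normalizer ((Y : Subgroup X) : Set X))
  set H := G ⊓ normalizer (Y : Set X) with hH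
  have hYG : Y ≤ G := hY.le.trans (iCore_le G R)
  have hMH : M ≤ H := le_inf (fixedIn_le G a) fun g hg => conjBy_eq_self_iff.mp (hY.fix g hg)
  rcases eq_or_ne H G with hHG | hHG
  · exfalso
    have hGY : G ≤ centralizer (Y : Set X) :=
      hG.ge.trans (le_centralizer_xCore hYG (hPp.to_le hY.le) fun g hg =>
        conjBy_eq_self_iff.mpr ((hHG.ge hg).2))
    have hPY : P ≤ Y := fun x hx => hY.self ⟨hx, hGY (iCore_le G R hx)⟩
    exact hnc (hGY.trans (centralizer_le hPY))
  have hlt : Nat.card H < Nat.card G := lt_of_le_of_ne (card_le_of_le inf_le_left)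
    fun e => hHG (eq_of_le_of_card_ge inf_le_left e.ge)
  have hHR : ∀ b ∈ R, conjBy H b = H := fun b hb =>
    conjBy_inf_eq (h.inv b hb) (conjBy_normalizer (hY.inv b hb))
  have hcopH := h.cop_le (inf_le_left : H ≤ G)
  have hX : R ≤ centralizer (xCore p H : Set X) := by
    rw [← xCore_xCore (p := p) H]
    exact hIH _ ((card_le_of_le (xCore_le H)).trans_lt hlt) (hyp_inner hR hab h hpr har ha ha1 hY)
  set D := iCore p H R with hD
  have hDP : D = P ⊓ H := iCore_inf hR h.cop h.inv inf_le_left hHR fun c hc hca =>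
    conjBy_mem_self (hMH (mem_fixedIn.mpr ⟨hc, hca a ha⟩))
  have hDP' : D = P ⊓ normalizer (Y : Set X) := by
    rw [hDP, hH, ← inf_assoc, inf_eq_left.mpr (iCore_le G R)]
  have hW := le_normalizer_kIn hp hpr hR hcopH hHR hX
  set W := kIn D with hWdef
  have hWP : W ≤ P := (kIn_le D).trans (hDP.le.trans inf_le_left)
  have hadm := adm_sup hR hab h ha ha1 hWP
    (fun b hb => conjBy_kIn (conjBy_iCore_of_mem_R hHR hb))
    (fun g hg => conjBy_eq_self_iff.mpr (hW (hMH hg)))
    (fun x hx => inf_centralizer_kIn_le (p := p) (iCore_isPGroup hR hcopH hHR)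
      ⟨hDP.ge ⟨hTP hx.1, hMH (opCore_le M hx.1)⟩, hx.2⟩)
  have hle : P ⊓ normalizer (D : Set X) ≤
      P ⊓ normalizer ((W ⊔ (P ⊓ centralizer (W : Set X)) : Subgroup X) : Set X) := by
    rintro g ⟨hgP, hgD⟩
    refine ⟨hgP, conjBy_eq_self_iff.mp ?_⟩
    have hgW : conjBy W g = W := conjBy_kIn (conjBy_eq_self_iff.mpr hgD)
    exact conjBy_sup_eq hgW (conjBy_inf_eq (conjBy_mem_self hgP) (conjBy_centralizer hgW))
  have hDle : D ≤ P := hDP.le.trans inf_le_left
  have heq : P ⊓ normalizer (D : Set X) = D := by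
    refine (eq_of_le_of_card_ge (le_inf hDle le_normalizer) ?_).symm
    refine (card_le_of_le hle).trans ((hmax ⟨_, hadm⟩).trans (le_of_eq ?_))
    rw [hDP']
  have hDP'' : D = P := by
    by_contra hne
    have := hPp.isNilpotent
    have hlt' : D.subgroupOf P < ⊤ := lt_top_iff_ne_top.mpr fun he =>
      hne (le_antisymm hDle (subgroupOf_eq_top.mp he))
    have hgt := Group.normalizerCondition_of_isNilpotent (G := P) _ hlt'
    refine hgt.not_ge fun g hg => ?_
    refine mem_subgroupOf.mpr (heq.le ⟨g.2, conjBy_eq_self_iff.mp (conjBy_eq_self_of_forall ?_)⟩)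
    intro x hx
    have h1 : (g * ⟨x, hDle hx⟩ * g⁻¹ : P) ∈ D.subgroupOf P :=
      (mem_normalizer_iff.mp hg _).mp (mem_subgroupOf.mpr hx)
    exact mem_subgroupOf.mp h1
  rw [← hDP'']
  exact hMH.trans hW

include hR hab in
theorem main (hp : 5 ≤ p) (hnc : ¬ IsCyclic ↥R) :
    ∀ (n : ℕ) (G : Subgroup X), Nat.card G ≤ n → Hyp p r R G →
      R ≤ centralizer (xCore p G : Set X) := by
  intro n
  induction n using Nat.strong_induction_on with
  | _ n ih =>
  intro G hn h
  have IH : ∀ K : Subgroup X, Nat.card K < Nat.card G → Hyp p r R K →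
      R ≤ centralizer (xCore p K : Set X) := fun K hK hH => ih _ (lt_of_lt_of_le hK hn) K le_rfl hH
  rcases eq_or_ne (xCore p G) G with hG | hG
  swap
  · rw [← xCore_xCore (p := p) G]
    exact IH _ (lt_of_le_of_ne (card_le_of_le (xCore_le G))
      fun e => hG (eq_of_le_of_card_ge (xCore_le G) e.ge))
      (h.of_normal (xCore_le G) (fun g hg => conjBy_xCore (conjBy_mem_self hg))
        fun b hb => conjBy_xCore (h.inv b hb))
  rw [hG]
  by_cases hc : G ≤ centralizer (iCore p G R : Set X)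
  · exact central_case hR hab h hnc hG hc
  exfalso
  set P := iCore p G R with hPdef
  have hPp : IsPGroup p P := iCore_isPGroup hR h.cop h.inv
  have hpr : p ≠ r := by
    intro hpr
    refine hc fun g _ => mem_centralizer_iff.mpr fun z hz => ?_
    have h1 : (Nat.card P).Coprime r := h.cop_le (iCore_le G R)
    obtain ⟨i, hi⟩ := IsPGroup.iff_card.mp hPp
    have hi0 : i = 0 := by
      by_contra hne
      rw [hi, hpr] at h1
      exact (Fact.out : r.Prime).one_lt.ne'
        (Nat.eq_one_of_dvd_coprimes h1 (dvd_pow_self r hne) dvd_rfl)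
    rw [hi0, pow_zero, Subgroup.card_eq_one] at hi
    have hz' : z ∈ P := hz
    rw [hi, mem_bot] at hz'
    rw [hz', one_mul, mul_one]
  have hab' : IsMulCommutative ↥R := ⟨⟨fun x y => Subtype.ext (hab x x.2 y y.2)⟩⟩
  have hfix : ∀ b ∈ R, b ≠ 1 → fixedIn G b ≤ normalizer (kIn P : Set X) := by
    intro b hb hb1
    obtain ⟨k, hk⟩ := hR ⟨b, hb⟩
    obtain ⟨j, -, hj⟩ := (Nat.dvd_prime_pow (Fact.out : r.Prime)).mp
      (orderOf_dvd_of_pow_eq_one (show b ^ r ^ k = 1 from congrArg Subtype.val hk))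
    have hj0 : j ≠ 0 := fun h0 => hb1 (orderOf_eq_one_iff.mp (by rw [hj, h0, pow_zero]))
    obtain ⟨j, rfl⟩ := Nat.exists_eq_succ_of_ne_zero hj0
    have har : (b ^ r ^ j) ^ r = 1 := by
      rw [← pow_mul, ← pow_succ, ← hj, pow_orderOf_eq_one]
    have ha1 : b ^ r ^ j ≠ 1 := fun he => by
      have hd := orderOf_dvd_of_pow_eq_one he
      rw [hj] at hd
      exact absurd ((Nat.pow_dvd_pow_iff_le_right (Fact.out : r.Prime).one_lt).mp hd)
        (Nat.not_succ_le_self j)
    refine le_trans (fun g hg => ?_) (fixedIn_le_normalizer_kIn hR hab hp h hpr har (pow_mem hb _)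
      ha1 hG hc IH)
    obtain ⟨hgG, hgb⟩ := mem_fixedIn.mp hg
    exact mem_fixedIn.mpr ⟨hgG, ((show Commute g b from hgb).pow_right _).eq⟩
  have hGn : G ≤ normalizer (kIn P : Set X) := by
    conv_lhs => rw [← Coprime.iSup_centralizer_eq (K := G) hnc
      (fun b hb => conjBy_eq_self_iff.mp (h.inv b hb)) (coprime_card hR h.cop)]
    exact iSup₂_le fun b hb => hfix b hb.1 hb.2
  have hGc : G ≤ centralizer (kIn P : Set X) :=
    hG.ge.trans (le_centralizer_xCore ((kIn_le P).trans (iCore_le G R))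
      (hPp.to_le (kIn_le P)) fun g hg => conjBy_eq_self_iff.mpr (hGn hg))
  have hPW : P ≤ kIn P := fun x hx =>
    inf_centralizer_kIn_le hPp ⟨hx, hGc (iCore_le G R hx)⟩
  exact hc (hGc.trans (centralizer_le hPW))

end Cfsg.Agent.FlavellCentral
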